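import Groth.Agent.CVar22.AdaptedNorm

/-!
# Completing a chain over `(T_0) ⊂ (T_0, T_1) ⊂ …`
-/

set_option autoImplicit false

universe u

open MvPolynomial

namespace Groth.Agent.CVar22.Adapted

variable {k A : Type u} [Field k] [CommRing A] [Algebra k A] {d : ℕ}
  (φ : MvPolynomial (Fin d) k →ₐ[k] A) (hfin : φ.toRingHom.Finite)

include hfin in
/-- A prime between two given ones over an intermediate coordinate subspace. -/
theorem exists_between (a b : PrimeSpectrum A) (hab : a ≤ b) {i j l : ℕ} (hij : i ≤ j) (hjl : j ≤ l)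
    (ha : a.asIdeal.comap φ = lead k d i) (hb : b.asIdeal.comap φ = lead k d l) :
    ∃ c : PrimeSpectrum A, a ≤ c ∧ c ≤ b ∧ c.asIdeal.comap φ = lead k d j := by
  let mk := Ideal.Quotient.mkₐ k a.asIdeal
  let φ' : MvPolynomial (Fin (d - i)) k →ₐ[k] A ⧸ a.asIdeal := mk.comp (φ.comp (rename (shift i)))
  have hφ' : ∀ p, φ' (drop k d i p) = mk (φ p) := fun p => by
    refine (sub_eq_zero.mp ?_).symm
    rw [AlgHom.comp_apply, AlgHom.comp_apply, ← map_sub, ← map_sub]
    exact Ideal.Quotient.eq_zero_iff_mem.mpr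
      (show p - rename (shift i) (drop k d i p) ∈ a.asIdeal.comap φ from ha ▸ sub_rename_drop_mem k d i p)
  have hinj : Function.Injective φ' := (injective_iff_map_eq_zero _).mpr fun p hp => by
    have h0 : φ (rename (shift i) p) ∈ a.asIdeal := Ideal.Quotient.eq_zero_iff_mem.mp hp
    have h1 : rename (shift i) p ∈ lead k d i := ha ▸ h0
    rw [← ker_drop, RingHom.mem_ker, drop_rename] at h1
    exact h1
  have hint : φ'.toRingHom.IsIntegral := by
    refine RingHom.IsIntegral.tower_top (drop k d i).toRingHom φ'.toRingHom ?_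
    rw [show φ'.toRingHom.comp (drop k d i).toRingHom = mk.toRingHom.comp φ.toRingHom from RingHom.ext hφ']
    exact RingHom.IsIntegral.trans φ.toRingHom mk.toRingHom hfin.to_isIntegral
      (RingHom.isIntegral_of_surjective _ Ideal.Quotient.mk_surjective)
  letI := φ'.toRingHom.toAlgebra
  haveI : Algebra.IsIntegral (MvPolynomial (Fin (d - i)) k) (A ⧸ a.asIdeal) := ⟨hint⟩
  haveI : FaithfulSMul (MvPolynomial (Fin (d - i)) k) (A ⧸ a.asIdeal) :=
    (faithfulSMul_iff_algebraMap_injective _ _).mpr hinj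
  let b' : Ideal (A ⧸ a.asIdeal) := b.asIdeal.map (Ideal.Quotient.mk a.asIdeal)
  haveI : b'.IsPrime := Ideal.map_isPrime_of_surjective Ideal.Quotient.mk_surjective (by
    rw [Ideal.mk_ker]; exact hab)
  have hb'c : b'.comap (Ideal.Quotient.mk a.asIdeal) = b.asIdeal := by
    rw [Ideal.comap_map_of_surjective _ Ideal.Quotient.mk_surjective, sup_eq_left]
    show Ideal.comap (Ideal.Quotient.mk a.asIdeal) ⊥ ≤ b.asIdeal
    rw [← RingHom.ker_eq_comap_bot, Ideal.mk_ker]
    exact hab
  have hb' : b'.under (MvPolynomial (Fin (d - i)) k) = lead k (d - i) (l - i) := by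
    apply Ideal.comap_injective_of_surjective _ (drop_surjective k d i)
    rw [comap_drop_lead, Nat.add_sub_cancel' (hij.trans hjl), ← hb, ← hb'c]
    ext p
    show φ' (drop k d i p) ∈ b' ↔ mk (φ p) ∈ b'
    rw [hφ']
  haveI : b'.LiesOver (lead k (d - i) (l - i)) := ⟨hb'.symm⟩
  haveI := isPrime_lead (k := k) (d - i) (j - i)
  haveI := isPrime_lead (k := k) (d - i) (l - i)
  obtain ⟨c', hc'le, hc'p, hc'o⟩ :=
    Ideal.exists_ideal_le_liesOver_of_le (p := lead k (d - i) (j - i)) (q := lead k (d - i) (l - i)) b'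
      (lead_mono k _ (Nat.sub_le_sub_right hjl i))
  refine ⟨⟨c'.comap (Ideal.Quotient.mk a.asIdeal), Ideal.comap_isPrime _ _⟩,
    fun x hx => ?_, (Ideal.comap_mono hc'le).trans hb'c.le, ?_⟩
  · show Ideal.Quotient.mk a.asIdeal x ∈ c'
    rw [Ideal.Quotient.eq_zero_iff_mem.mpr hx]
    exact c'.zero_mem
  · have h : (lead k (d - i) (j - i)).comap (drop k d i) = lead k d j := by
      rw [comap_drop_lead, Nat.add_sub_cancel' hij]
    rw [← h]
    ext p
    show mk (φ p) ∈ c' ↔ drop k d i p ∈ lead k (d - i) (j - i)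
    rw [← hφ', hc'o.over]
    exact Iff.rfl

include hfin in
/-- A prime over the maximal coordinate ideal above a given one. -/
theorem exists_top (a : PrimeSpectrum A) {i : ℕ} (hi : i ≤ d) (ha : a.asIdeal.comap φ = lead k d i) :
    ∃ c : PrimeSpectrum A, a ≤ c ∧ c.asIdeal.comap φ = lead k d d := by
  letI := φ.toRingHom.toAlgebra
  haveI : Algebra.IsIntegral (MvPolynomial (Fin d) k) A := ⟨hfin.to_isIntegral⟩
  haveI := isPrime_lead (k := k) d d
  obtain ⟨Q, hQ, hQc⟩ := Ideal.exists_ideal_over_prime_of_isIntegral (lead k d d) a.asIdeal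
    (show a.asIdeal.comap φ ≤ _ from ha ▸ lead_mono k d hi)
  exact ⟨⟨Q, hQc.1⟩, hQ, hQc.2⟩

variable {r : ℕ} (q : Fin r → PrimeSpectrum A) (hq : StrictMono q) (h : Fin r → ℕ) (hh : ∀ i, h i ≤ d)
  (hinj : Function.Injective φ) (hcomap : ∀ i, (q i).asIdeal.comap φ = lead k d (h i))

include hfin hq hh hinj hcomap in
/-- The completed chain. -/
theorem exists_completion [IsDomain A] :
    ∃ Q : ℕ → PrimeSpectrum A, (∀ j, j ≤ d → (Q j).asIdeal.comap φ = lead k d j) ∧
      (∀ j, j < d → Q j < Q (j + 1)) ∧ (∀ i, Q (h i) = q i) := by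
  classical
  letI := φ.toRingHom.toAlgebra
  haveI : Algebra.IsIntegral (MvPolynomial (Fin d) k) A := ⟨hfin.to_isIntegral⟩
  have hhmono : StrictMono h := fun i i' hii' => by
    by_contra hle
    have hlt : (q i).asIdeal.comap φ < (q i').asIdeal.comap φ :=
      Ideal.IsIntegral.comap_lt_comap (R := MvPolynomial (Fin d) k) (hq hii')
    rw [hcomap, hcomap] at hlt
    exact hlt.not_ge (lead_mono k d (not_lt.mp hle))
  let bot : PrimeSpectrum A := ⟨⊥, Ideal.isPrime_bot⟩
  have hbot : bot.asIdeal.comap φ = lead k d 0 := by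
    rw [lead_zero]; exact (RingHom.injective_iff_ker_eq_bot φ.toRingHom).mp hinj
  -- the best lower bound at a level
  have hlow : ∀ j, ∃ (a : PrimeSpectrum A) (i : ℕ), i ≤ j ∧ a.asIdeal.comap φ = lead k d i ∧
      (∀ i', h i' ≤ j → q i' ≤ a) ∧ (a = bot ∨ ∃ i', a = q i' ∧ h i' ≤ j) := by
    intro j
    let s := Finset.univ.filter fun i' => h i' ≤ j
    rcases s.eq_empty_or_nonempty with hs | hs
    · refine ⟨bot, 0, Nat.zero_le j, hbot, fun i' hi' => ?_, .inl rfl⟩
      have : i' ∈ s := Finset.mem_filter.mpr ⟨Finset.mem_univ _, hi'⟩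
      simp [hs] at this
    · have hm := (Finset.mem_filter.mp (s.max'_mem hs)).2
      exact ⟨q (s.max' hs), h (s.max' hs), hm, hcomap _,
        fun i' hi' => hq.monotone (s.le_max' i' (Finset.mem_filter.mpr ⟨Finset.mem_univ _, hi'⟩)),
        .inr ⟨_, rfl, hm⟩⟩
  -- downward recursion
  have key : ∀ t, t ≤ d → ∃ Q : ℕ → PrimeSpectrum A, ∀ j, d - t ≤ j → j ≤ d →
      (Q j).asIdeal.comap φ = lead k d j ∧ (∀ i', h i' ≤ j → q i' ≤ Q j) ∧
        (∀ i', h i' = j → Q j = q i') ∧ (d - t < j → Q (j - 1) ≤ Q j) := by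
    intro t
    induction t with
    | zero =>
      intro _
      by_cases hex : ∃ i', h i' = d
      · obtain ⟨i', hi'⟩ := hex
        refine ⟨fun _ => q i', fun j hj hjd => ?_⟩
        obtain rfl : j = d := by omega
        exact ⟨hi' ▸ hcomap i', fun i'' hi'' => hq.monotone (hhmono.le_iff_le.mp (hi' ▸ hi'')),
          fun i'' hi'' => by rw [hhmono.injective (hi''.trans hi'.symm)], fun hlt => absurd hlt (by omega)⟩
      · obtain ⟨a, i, hi, ha, hmax, -⟩ := hlow d
        obtain ⟨c, hac, hc⟩ := exists_top φ hfin a hi ha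
        refine ⟨fun _ => c, fun j hj hjd => ?_⟩
        obtain rfl : j = d := by omega
        exact ⟨hc, fun i'' hi'' => (hmax i'' hi'').trans hac, fun i'' hi'' => absurd ⟨i'', hi''⟩ hex,
          fun hlt => absurd hlt (by omega)⟩
    | succ t ih =>
      intro ht
      obtain ⟨Q, hQ⟩ := ih (by omega)
      set j := d - (t + 1) with hj
      obtain ⟨hQc, hQub, -, -⟩ := hQ (j + 1) (by omega) (by omega)
      obtain ⟨a, i, hi, ha, hmax, hor⟩ := hlow j
      have haQ : a ≤ Q (j + 1) := by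
        rcases hor with rfl | ⟨i', rfl, hi'⟩
        · exact bot_le (α := Ideal A)
        · exact hQub i' (by omega)
      obtain ⟨c, hc, hcQ, hcub, hceq⟩ : ∃ c : PrimeSpectrum A, c.asIdeal.comap φ = lead k d j ∧
          c ≤ Q (j + 1) ∧ (∀ i', h i' ≤ j → q i' ≤ c) ∧ (∀ i', h i' = j → c = q i') := by
        by_cases hex : ∃ i', h i' = j
        · obtain ⟨i', hi'⟩ := hex
          exact ⟨q i', hi' ▸ hcomap i', hQub i' (by omega),
            fun i'' hi'' => hq.monotone (hhmono.le_iff_le.mp (hi' ▸ hi'')),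
            fun i'' hi'' => by rw [hhmono.injective (hi''.trans hi'.symm)]⟩
        · obtain ⟨c, hac, hcb, hc⟩ := exists_between φ hfin a (Q (j + 1)) haQ hi (Nat.le_succ j) ha hQc
          exact ⟨c, hc, hcb, fun i'' hi'' => (hmax i'' hi'').trans hac,
            fun i'' hi'' => absurd ⟨i'', hi''⟩ hex⟩
      refine ⟨Function.update Q j c, fun l hl hld => ?_⟩
      rcases eq_or_ne l j with rfl | hlj
      · rw [Function.update_self]
        exact ⟨hc, hcub, hceq, fun hlt => absurd hlt (lt_irrefl _)⟩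
      · obtain ⟨h1, h2, h3, h4⟩ := hQ l (by omega) hld
        rw [Function.update_of_ne hlj]
        refine ⟨h1, h2, h3, fun _ => ?_⟩
        rcases eq_or_ne (l - 1) j with e | e
        · rw [e, Function.update_self, show l = j + 1 by omega]
          exact hcQ
        · rw [Function.update_of_ne e]
          exact h4 (by omega)
  obtain ⟨Q, hQ⟩ := key d le_rfl
  refine ⟨Q, fun j hj => (hQ j (by omega) hj).1, fun j hj => ?_,
    fun i => (hQ (h i) (by omega) (hh i)).2.2.1 i rfl⟩
  have hle : Q j ≤ Q (j + 1) := by simpa using (hQ (j + 1) (by omega) hj).2.2.2 (by omega)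
  refine lt_of_le_of_ne hle fun e => ?_
  have h1 := (hQ j (by omega) hj.le).1
  have h2 := (hQ (j + 1) (by omega) hj).1
  rw [e, h2] at h1
  exact absurd (lead_inj k d hj hj.le h1) (by omega)

end Groth.Agent.CVar22.Adapted
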