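import Groth.Agent.CVar22.LeadIdeal
import Groth.Agent.CAlg48.RefinedNoether
import Groth.Agent.VarDim.Algebra

/-!
# Noether normalization adapted to a chain of primes
-/

set_option autoImplicit false

universe u

open MvPolynomial

namespace Groth.Agent.CVar22.Adapted

variable {k : Type u} [Field k]

theorem finite_of_isIntegral {A B : Type u} [CommRing A] [Algebra k A] [CommRing B] [Algebra k B]
    [Algebra.FiniteType k B] (φ : A →ₐ[k] B) (h : φ.toRingHom.IsIntegral) : φ.toRingHom.Finite := by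
  refine h.to_finite (RingHom.FiniteType.of_comp_finiteType (f := algebraMap k A) ?_)
  rw [AlgHom.toRingHom_eq_coe, φ.comp_algebraMap]
  exact RingHom.finiteType_algebraMap.2 inferInstance

/-- Dimensions along an integral map: the quotient by the contraction has the same dimension. -/
theorem ringKrullDim_quot_comap {R S : Type u} [CommRing R] [CommRing S] (f : R →+* S)
    (hf : f.IsIntegral) (P : Ideal S) : ringKrullDim (R ⧸ P.comap f) = ringKrullDim (S ⧸ P) := by
  letI : Algebra (R ⧸ P.comap f) (S ⧸ P) := (Ideal.quotientMap P f le_rfl).toAlgebra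
  haveI : FaithfulSMul (R ⧸ P.comap f) (S ⧸ P) :=
    (faithfulSMul_iff_algebraMap_injective _ _).mpr Ideal.quotientMap_injective
  haveI : Algebra.IsIntegral (R ⧸ P.comap f) (S ⧸ P) := ⟨fun x => by
    obtain ⟨x, rfl⟩ := Ideal.Quotient.mk_surjective x
    obtain ⟨p, hp, hpx⟩ := hf x
    refine ⟨p.map (Ideal.Quotient.mk _), hp.map _, ?_⟩
    rw [Polynomial.eval₂_map]
    show Polynomial.eval₂ ((Ideal.quotientMap P f le_rfl).comp (Ideal.Quotient.mk _)) _ p = 0
    rw [Ideal.quotientMap_comp_mk, ← Polynomial.hom_eval₂, hpx, map_zero]⟩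
  exact (VarDim.ringKrullDim_eq_of_isIntegral).symm

theorem ringKrullDim_poly (n : ℕ) : ringKrullDim (MvPolynomial (Fin n) k) = n := by
  rw [MvPolynomial.ringKrullDim_of_isNoetherianRing, ringKrullDim_eq_zero_of_field]
  simp

theorem ringKrullDim_quot_lead (n a : ℕ) :
    ringKrullDim (MvPolynomial (Fin n) k ⧸ lead k n a) = ((n - a : ℕ) : WithBot ℕ∞) := by
  rw [← ringKrullDim_poly (k := k) (n - a)]
  exact ringKrullDim_eq_of_ringEquiv ((Ideal.quotEquivOfEq (ker_drop k n a).symm).trans
    (RingHom.quotientKerEquivOfSurjective (drop_surjective k n a)))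

theorem isPrime_lead (n a : ℕ) : (lead k n a).IsPrime := ker_drop k n a ▸ RingHom.ker_isPrime _

/-- An integral endomorphism of a polynomial ring is injective. -/
theorem injective_of_isIntegral {n : ℕ} (φ : MvPolynomial (Fin n) k →ₐ[k] MvPolynomial (Fin n) k)
    (h : φ.toRingHom.IsIntegral) : Function.Injective φ := by
  have hd := ringKrullDim_quot_comap φ.toRingHom h ⊥
  rw [ringKrullDim_eq_of_ringEquiv (RingEquiv.quotientBot (MvPolynomial (Fin n) k)), ringKrullDim_poly] at hd
  refine (injective_iff_map_eq_zero _).mpr fun x hx => ?_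
  by_contra hx0
  have hle := ringKrullDim_succ_le_of_surjective (Ideal.Quotient.mk ((⊥ : Ideal _).comap φ.toRingHom))
    Ideal.Quotient.mk_surjective (mem_nonZeroDivisors_of_ne_zero hx0)
    (Ideal.Quotient.eq_zero_iff_mem.mpr (by simpa using hx))
  rw [hd, ringKrullDim_poly] at hle
  have : n + 1 ≤ n := by exact_mod_cast hle
  omega

/-- Refined normalization for one prime, leading variables. -/
theorem exists_one (n a : ℕ) (ha : a ≤ n) (q : Ideal (MvPolynomial (Fin n) k)) [q.IsPrime]
    (hdim : ringKrullDim (MvPolynomial (Fin n) k ⧸ q) = ((n - a : ℕ) : WithBot ℕ∞)) :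
    ∃ φ : MvPolynomial (Fin n) k →ₐ[k] MvPolynomial (Fin n) k,
      φ.toRingHom.IsIntegral ∧ q.comap φ = lead k n a := by
  haveI := VarDim.finiteType_quotient k (MvPolynomial (Fin n) k) q
  obtain ⟨-, φ, hφ, hq⟩ := CAlg48.RefinedNoether.exists_normalization n (n - a) q
    (VarDim.trdeg_eq_of_ringKrullDim_eq k _ hdim)
  let σ : MvPolynomial (Fin n) k ≃ₐ[k] MvPolynomial (Fin n) k := renameEquiv k Fin.revPerm
  refine ⟨φ.comp σ.toAlgHom, ?_, ?_⟩
  · exact RingHom.IsIntegral.trans σ.toAlgHom.toRingHom φ.toRingHom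
      (σ.toRingEquiv.toRingHom.isIntegral_of_surjective σ.surjective) hφ
  · rw [← Ideal.comap_comapₐ, hq]
    have hmap : (lead k n a).map σ.toAlgHom = CAlg48.RefinedNoether.lin k n (n - a) := by
      refine le_antisymm ?_ ?_
      · rw [Ideal.map_span, Ideal.span_le]
        rintro _ ⟨_, ⟨l, hl, rfl⟩, rfl⟩
        refine Ideal.subset_span ⟨⟨Fin.rev l, ?_⟩, ?_⟩
        · simp at hl; simp [Fin.val_rev]; omega
        · show _ = σ (X l)
          simp [σ]
      · rw [CAlg48.RefinedNoether.lin, Ideal.span_le]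
        rintro _ ⟨⟨i, hi⟩, rfl⟩
        have : σ.toAlgHom (X (Fin.rev i)) = (X i : MvPolynomial (Fin n) k) := by simp [σ]
        show X i ∈ _
        rw [← this]
        refine Ideal.mem_map_of_mem _ (Ideal.subset_span ⟨_, ?_, rfl⟩)
        simp [Fin.val_rev]; omega
    rw [← hmap]
    exact Ideal.comap_map_of_bijective _ σ.bijective

/-- Normalization adapted to a chain in a polynomial ring. -/
theorem exists_chain : ∀ (r n : ℕ) (P : Fin r → PrimeSpectrum (MvPolynomial (Fin n) k)) (h : Fin r → ℕ),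
    Monotone P → (∀ i, h i ≤ n) →
    (∀ i, ringKrullDim (MvPolynomial (Fin n) k ⧸ (P i).asIdeal) = ((n - h i : ℕ) : WithBot ℕ∞)) →
    ∃ ψ : MvPolynomial (Fin n) k →ₐ[k] MvPolynomial (Fin n) k, ψ.toRingHom.IsIntegral ∧
      ∀ i, (P i).asIdeal.comap ψ = lead k n (h i) := by
  intro r
  induction r with
  | zero => exact fun n P h _ _ _ => ⟨AlgHom.id k _, fun x => RingHom.isIntegralElem_map _ (x := x), fun i => i.elim0⟩
  | succ r ih =>
    intro n P h hP hh hdim
    obtain ⟨ψ₁, hψ₁, hq⟩ := exists_one n (h 0) (hh 0) (P 0).asIdeal (hdim 0)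
    have hle : ∀ i, h 0 ≤ h i := fun i => by
      have h1 := ringKrullDim_le_of_surjective (Ideal.Quotient.factor (hP (Fin.zero_le i) : (P 0).asIdeal ≤ (P i).asIdeal))
        (Ideal.Quotient.factor_surjective _)
      rw [hdim, hdim] at h1
      have h1' : n - h i ≤ n - h 0 := by exact_mod_cast h1
      have := hh i
      have := hh 0
      omega
    let π := drop k n (h 0)
    let P' : Fin r → Ideal (MvPolynomial (Fin n) k) := fun i => (P i.succ).asIdeal.comap ψ₁
    have hP'le : ∀ i, lead k n (h 0) ≤ P' i := fun i => hq ▸ Ideal.comap_mono (hP (Fin.zero_le i.succ))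
    have hker : ∀ i, RingHom.ker π ≤ P' i := fun i => (ker_drop k n (h 0)).le.trans (hP'le i)
    have hprime : ∀ i, ((P' i).map π).IsPrime := fun i => by
      haveI : (P' i).IsPrime := Ideal.comap_isPrime _ _
      exact Ideal.map_isPrime_of_surjective (drop_surjective k n (h 0)) (hker i)
    let P'' : Fin r → PrimeSpectrum (MvPolynomial (Fin (n - h 0)) k) := fun i => ⟨(P' i).map π, hprime i⟩
    have hcm : ∀ i, ((P' i).map π).comap π = P' i := fun i => by
      rw [Ideal.comap_map_of_surjective _ (drop_surjective k n (h 0)), sup_eq_left]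
      exact hker i
    have hdim'' : ∀ i, ringKrullDim (MvPolynomial (Fin (n - h 0)) k ⧸ (P'' i).asIdeal) =
        ((n - h 0 - (h i.succ - h 0) : ℕ) : WithBot ℕ∞) := fun i => by
      rw [← ringKrullDim_quot_comap π.toRingHom
        (RingHom.isIntegral_of_surjective _ (drop_surjective k n (h 0))) (P'' i).asIdeal]
      show ringKrullDim (_ ⧸ ((P' i).map π).comap π) = _
      rw [hcm, show P' i = (P i.succ).asIdeal.comap ψ₁.toRingHom from rfl,
        ringKrullDim_quot_comap _ hψ₁, hdim]
      have := hle i.succ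
      have := hh i.succ
      have := hh 0
      rw [show n - h i.succ = n - h 0 - (h i.succ - h 0) by omega]
    obtain ⟨ψ₂, hψ₂, hq₂⟩ := ih (n - h 0) P'' (fun i => h i.succ - h 0)
      (fun i j hij => Ideal.map_mono (Ideal.comap_mono (hP (Fin.succ_le_succ_iff.mpr hij))))
      (fun i => by have := hh i.succ; omega) hdim''
    let s := shift (n := n) (h 0)
    let Ψ : MvPolynomial (Fin n) k →ₐ[k] MvPolynomial (Fin n) k :=
      aeval fun l => if hl : (l : ℕ) < h 0 then X l else rename s (ψ₂ (X ⟨(l : ℕ) - h 0, by omega⟩))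
    have hΨs : ∀ p, Ψ (rename s p) = rename s (ψ₂ p) := fun p => by
      refine AlgHom.congr_fun (φ₁ := Ψ.comp (rename s)) (φ₂ := (rename s).comp ψ₂) ?_ p
      refine algHom_ext fun j => ?_
      simp only [AlgHom.comp_apply, rename_X, Ψ, aeval_X]
      rw [dif_neg (by simp [s, shift])]
      congr 4
      simp [s, shift]
    have hcomm : ∀ p, π (Ψ p) = ψ₂ (π p) := fun p => by
      refine AlgHom.congr_fun (φ₁ := π.comp Ψ) (φ₂ := ψ₂.comp π) ?_ p
      refine algHom_ext fun l => ?_
      simp only [AlgHom.comp_apply, Ψ, aeval_X]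
      by_cases hl : (l : ℕ) < h 0
      · rw [dif_pos hl, drop_X_of_lt k l hl, map_zero]
      · rw [dif_neg hl, drop_rename]
        congr 1
        have e : l = s ⟨(l : ℕ) - h 0, by omega⟩ := Fin.ext (by simp [s, shift]; omega)
        conv_rhs => rw [e, ← rename_X]
        rw [drop_rename]
    have hΨint : Ψ.toRingHom.IsIntegral := by
      intro x
      induction x using MvPolynomial.induction_on with
      | C c =>
        have : (C c : MvPolynomial (Fin n) k) = Ψ (C c) := (Ψ.commutes c).symm
        rw [this]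
        exact RingHom.isIntegralElem_map _
      | add x y hx hy => exact hx.add _ hy
      | mul_X x i hx =>
        refine hx.mul _ ?_
        by_cases hi : (i : ℕ) < h 0
        · have : (X i : MvPolynomial (Fin n) k) = Ψ (X i) := by simp [Ψ, dif_pos hi]
          rw [this]
          exact RingHom.isIntegralElem_map _
        · let j : Fin (n - h 0) := ⟨(i : ℕ) - h 0, by omega⟩
          have e : i = s j := Fin.ext (by simp [s, shift, j]; omega)
          obtain ⟨p, hp, hpx⟩ := hψ₂ (X j)
          refine ⟨p.map (rename s).toRingHom, hp.map _, ?_⟩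
          rw [Polynomial.eval₂_map]
          have hc : Ψ.toRingHom.comp (rename s).toRingHom = (rename s).toRingHom.comp ψ₂.toRingHom :=
            RingHom.ext hΨs
          rw [hc, e, ← rename_X]
          show Polynomial.eval₂ _ ((rename s).toRingHom (X j)) p = 0
          rw [← Polynomial.hom_eval₂, hpx, map_zero]
    refine ⟨ψ₁.comp Ψ, RingHom.IsIntegral.trans Ψ.toRingHom ψ₁.toRingHom hΨint hψ₁, fun i => ?_⟩
    rw [← Ideal.comap_comapₐ]
    refine Fin.cases ?_ (fun i => ?_) i
    · rw [hq, ← ker_drop]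
      ext p
      rw [Ideal.mem_comap, RingHom.mem_ker, RingHom.mem_ker]
      show π (Ψ p) = 0 ↔ π p = 0
      rw [hcomm]
      exact map_eq_zero_iff _ (injective_of_isIntegral ψ₂ hψ₂)
    · show (P' i).comap Ψ = _
      rw [← hcm i]
      ext p
      rw [Ideal.mem_comap, Ideal.mem_comap]
      have h2 : ψ₂ (π p) ∈ (P'' i).asIdeal ↔ π p ∈ lead k (n - h 0) (h i.succ - h 0) := by
        rw [← hq₂ i, Ideal.mem_comap]
      show π (Ψ p) ∈ (P'' i).asIdeal ↔ _
      rw [hcomm, h2, ← Ideal.mem_comap, comap_drop_lead, Nat.add_sub_cancel' (hle i.succ)]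

/-- Normalization adapted to a chain of primes of a finitely generated domain. -/
theorem exists_adapted (A : Type u) [CommRing A] [IsDomain A] [Algebra k A] [Algebra.FiniteType k A]
    (d : ℕ) (hd : ringKrullDim A = (d : WithBot ℕ∞))
    (r : ℕ) (q : Fin r → PrimeSpectrum A) (hq : Monotone q) (h : Fin r → ℕ) (hh : ∀ i, h i ≤ d)
    (hdim : ∀ i, ringKrullDim (A ⧸ (q i).asIdeal) = ((d - h i : ℕ) : WithBot ℕ∞)) :
    ∃ φ : MvPolynomial (Fin d) k →ₐ[k] A, φ.toRingHom.Finite ∧ Function.Injective φ ∧
      ∀ i, (q i).asIdeal.comap φ = lead k d (h i) := by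
  obtain ⟨s, g, ginj, gfin⟩ := VarDim.exists_noether k A
  have hgint : g.toRingHom.IsIntegral := gfin.to_isIntegral
  obtain rfl : s = d := by
    have h1 := ringKrullDim_quot_comap g.toRingHom hgint ⊥
    rw [ringKrullDim_eq_of_ringEquiv (RingEquiv.quotientBot A), hd,
      show (⊥ : Ideal A).comap g.toRingHom = ⊥ from (RingHom.injective_iff_ker_eq_bot _).mp ginj,
      ringKrullDim_eq_of_ringEquiv (RingEquiv.quotientBot _), ringKrullDim_poly] at h1
    exact_mod_cast h1
  obtain ⟨ψ, hψ, hψq⟩ := exists_chain r s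
    (fun i => ⟨(q i).asIdeal.comap g, Ideal.comap_isPrime _ _⟩) h
    (fun i j hij => Ideal.comap_mono (hq hij)) hh
    (fun i => (ringKrullDim_quot_comap g.toRingHom hgint _).trans (hdim i))
  refine ⟨g.comp ψ, finite_of_isIntegral _ (RingHom.IsIntegral.trans ψ.toRingHom g.toRingHom hψ hgint),
    ginj.comp (injective_of_isIntegral ψ hψ), fun i => ?_⟩
  rw [← Ideal.comap_comapₐ]
  exact hψq i

end Groth.Agent.CVar22.Adapted
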