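import Groth.Agent.CVar22.Uncountable
import Mathlib.AlgebraicGeometry.IdealSheaf.Subscheme
import Mathlib.AlgebraicGeometry.Noetherian

/-!
# Irredundant decompositions of countable unions of closed subsets
-/

universe u

open CategoryTheory AlgebraicGeometry TopologicalSpace

namespace Groth.Agent.CVar22

variable {X : Scheme.{u}}

/-- An irreducible closed subset covered on closed points by countably many closed subsets lies in one of them. -/
theorem exists_subset_of_closedPoints_subset (k : Type u) [Field k] [Uncountable k]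
    (sX : X ⟶ Spec (CommRingCat.of k)) [LocallyOfFiniteType sX] (T : Closeds X) (hT : IsIrreducible (T : Set X))
    (S : Set (Closeds X)) (hS : S.Countable)
    (h : ∀ x : X, IsClosed ({x} : Set X) → x ∈ T → ∃ U ∈ S, x ∈ U) : ∃ U ∈ S, T ≤ U := by
  by_contra hne
  push Not at hne
  have hSne : S.Nonempty := by
    have := LocallyOfFiniteType.jacobsonSpace sX
    obtain ⟨x, hxT, hx⟩ := nonempty_inter_closedPoints hT.nonempty T.isClosed.isLocallyClosed
    obtain ⟨U, hU, -⟩ := h x hx hxT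
    exact ⟨U, hU⟩
  obtain ⟨e, he⟩ := hS.exists_eq_range hSne
  let I := Scheme.IdealSheafData.vanishingIdeal T
  have hrange : Set.range I.subschemeι = (T : Set X) := by
    rw [Scheme.IdealSheafData.range_subschemeι, Scheme.IdealSheafData.coe_support_vanishingIdeal]
  have : IrreducibleSpace I.subscheme :=
    { toPreirreducibleSpace := ⟨by
        rw [← Set.preimage_univ (f := I.subschemeι)]
        intro u v hu hv hnu hnv
        obtain ⟨u', hu', rfl⟩ := I.subschemeι.isClosedEmbedding.isInducing.isOpen_iff.1 hu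
        obtain ⟨v', hv', rfl⟩ := I.subschemeι.isClosedEmbedding.isInducing.isOpen_iff.1 hv
        obtain ⟨a, -, ha⟩ := hnu
        obtain ⟨b, -, hb⟩ := hnv
        obtain ⟨c, hcT, hcu, hcv⟩ := hT.isPreirreducible u' v' hu' hv'
          ⟨_, hrange.le ⟨a, rfl⟩, ha⟩ ⟨_, hrange.le ⟨b, rfl⟩, hb⟩
        obtain ⟨z, rfl⟩ := hrange.ge hcT
        exact ⟨z, trivial, hcu, hcv⟩⟩
      toNonempty := by
        obtain ⟨x, hx⟩ := hT.nonempty
        obtain ⟨z, -⟩ := hrange.ge hx
        exact ⟨z⟩ }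
  obtain ⟨z, hz, hzn⟩ := exists_closedPoint_forall_notMem k (I.subschemeι ≫ sX)
    (fun n => I.subschemeι ⁻¹' (e n : Set X)) (fun n => (e n).isClosed.preimage I.subschemeι.continuous)
    (fun n hn => hne (e n) (he ▸ ⟨n, rfl⟩) (fun x hx => by
      obtain ⟨z, rfl⟩ := hrange.ge hx
      exact hn.ge (Set.mem_univ z)))
  have hcl : IsClosed ({I.subschemeι z} : Set X) := by
    rw [← Set.image_singleton]
    exact I.subschemeι.isClosedEmbedding.isClosedMap _ hz
  obtain ⟨U, hU, hzU⟩ := h _ hcl (hrange.le ⟨z, rfl⟩)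
  obtain ⟨n, rfl⟩ := he.le hU
  exact hzn n hzU

/-- irreducible closed subsets of a locally Noetherian scheme satisfy the ascending chain condition -/
theorem exists_maximal_irreducible [IsLocallyNoetherian X] (C : Set (Closeds X))
    (hC : ∀ T ∈ C, IsIrreducible (T : Set X)) (T : Closeds X) (hT : T ∈ C) :
    ∃ M ∈ C, T ≤ M ∧ ∀ N ∈ C, M ≤ N → N ≤ M := by
  by_contra hno
  push Not at hno
  have : ∀ M : {M // M ∈ C ∧ T ≤ M}, ∃ N : {M // M ∈ C ∧ T ≤ M}, M.1 < N.1 := fun M => by
    obtain ⟨N, hN, hMN, hNM⟩ := hno M.1 M.2.1 M.2.2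
    exact ⟨⟨N, hN, M.2.2.trans hMN⟩, lt_of_le_not_ge hMN hNM⟩
  choose next hnext using this
  let c : ℕ → {M // M ∈ C ∧ T ≤ M} := fun n => next^[n] ⟨T, hT, le_rfl⟩
  have hc : ∀ n, (c n).1 < (c (n + 1)).1 := fun n => by
    simp only [c, Function.iterate_succ_apply']
    exact hnext _
  let η : ℕ → X := fun n => (hC _ (c n).2.1).genericPoint
  have hη : ∀ n, closure {η n} = ((c n).1 : Set X) := fun n =>
    (hC _ (c n).2.1).genericPoint_closure_eq.trans (c n).1.isClosed.closure_eq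
  obtain ⟨U, hU, h0U, -⟩ := exists_isAffineOpen_mem_and_subset (x := η 0) (U := ⊤) trivial
  have hsp : ∀ n, η (n + 1) ⤳ η n := fun n => by
    rw [specializes_iff_mem_closure, hη]
    exact (hc n).le ((hη n).le (subset_closure rfl))
  have hmem : ∀ n, η n ∈ U := fun n => by
    induction n with
    | zero => exact h0U
    | succ n ih => exact (hsp n).mem_open U.2 ih
  choose p hp using fun n => hU.range_fromSpec.ge (hmem n)
  have : IsNoetherianRing Γ(X, U) := IsLocallyNoetherian.component_noetherian ⟨U, hU⟩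
  have hlt : ∀ n, (p (n + 1)).asIdeal < (p n).asIdeal := fun n => by
    have h1 : p (n + 1) ⤳ p n := by
      rw [← hU.fromSpec.isOpenEmbedding.isInducing.specializes_iff, hp, hp]
      exact hsp n
    refine lt_of_le_of_ne ((PrimeSpectrum.le_iff_specializes _ _).2 h1) fun heq => (hc n).ne ?_
    refine SetLike.coe_injective ((hη n).symm.trans (Eq.trans ?_ (hη (n + 1))))
    rw [← hp n, ← hp (n + 1), PrimeSpectrum.ext heq]
  have hfin : ∀ n, Ideal.height (p n).asIdeal ≠ ⊤ := fun n => @Ideal.height_ne_top_of_isPrime _ _ _ _ (p n).isPrime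
  have hdec : ∀ n, (Ideal.height (p (n + 1)).asIdeal).toNat < (Ideal.height (p n).asIdeal).toNat := fun n => by
    have h := @Ideal.height_strict_mono_of_isPrime _ _ _ _ (p (n + 1)).isPrime (hlt n)
    lift Ideal.height (p (n + 1)).asIdeal to ℕ using hfin (n + 1) with a ha
    lift Ideal.height (p n).asIdeal to ℕ using hfin n with b hb
    simpa using h
  have hbd : ∀ n, (Ideal.height (p n).asIdeal).toNat + n ≤ (Ideal.height (p 0).asIdeal).toNat := fun n => by
    induction n with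
    | zero => simp
    | succ n ih => have := hdec n; omega
  have := hbd ((Ideal.height (p 0).asIdeal).toNat + 1)
  omega

/-- existence and uniqueness of the decomposition -/
theorem existsUnique_decomposition (k : Type u) [Field k] [Uncountable k]
    (sX : X ⟶ Spec (CommRingCat.of k)) [LocallyOfFiniteType sX] [QuasiCompact sX] (Z : ℕ → Closeds X) :
    ∃! S : Set (Closeds X), S.Countable ∧ (∀ T ∈ S, IsIrreducible (T : Set X)) ∧
      IsAntichain (· ≤ ·) S ∧
      {x : X | IsClosed ({x} : Set X) ∧ ∃ T ∈ S, x ∈ T} =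
        {x : X | IsClosed ({x} : Set X) ∧ ∃ n, x ∈ Z n} := by
  have : IsLocallyNoetherian X := LocallyOfFiniteType.isLocallyNoetherian sX
  have : CompactSpace X := QuasiCompact.compactSpace_of_compactSpace sX
  have : IsNoetherian X := { }
  let C : Set (Closeds X) := {T | IsIrreducible (T : Set X) ∧ ∃ n, T ≤ Z n ∧
    ∀ u : Closeds X, IsIrreducible (u : Set X) → u ≤ Z n → T ≤ u → u ≤ T}
  have hcount : C.Countable := by
    choose S hirr hmem using fun n =>
      NoetherianSpace.exists_finset_irreducible (Z n)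
    refine Set.Countable.mono ?_ (Set.countable_iUnion fun n => (S n).countable_toSet)
    rintro T ⟨hT, n, hTn, hmax⟩
    obtain ⟨W, hW, hTW⟩ : ∃ W ∈ S n, T ≤ W := by
      have hsub : (T : Set X) ⊆ ⋃₀ ↑((S n).image fun W : Closeds X => (W : Set X)) := fun x hx => by
        have hx' := hTn hx
        rw [hmem n, ← SetLike.mem_coe, Closeds.coe_finset_sup, Finset.sup_eq_iSup] at hx'
        simp only [Set.iSup_eq_iUnion, Function.comp_apply, id_eq, Set.mem_iUnion] at hx'
        obtain ⟨W, hW, hxW⟩ := hx'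
        exact Set.mem_sUnion.2 ⟨W, Finset.mem_coe.2 (Finset.mem_image_of_mem _ hW), hxW⟩
      obtain ⟨z, hz, hTz⟩ := isIrreducible_iff_sUnion_isClosed.1 hT _ (fun z hz => by
        obtain ⟨W, -, rfl⟩ := Finset.mem_image.1 hz
        exact W.isClosed) hsub
      obtain ⟨W, hW, rfl⟩ := Finset.mem_image.1 hz
      exact ⟨W, hW, hTz⟩
    have hWn : W ≤ Z n := by rw [hmem n]; exact Finset.le_sup (f := id) hW
    have : W = T := le_antisymm (hmax W (hirr n ⟨W, hW⟩) hWn hTW) hTW
    exact Set.mem_iUnion.2 ⟨n, Finset.mem_coe.2 (this ▸ hW)⟩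
  have hCirr : ∀ T ∈ C, IsIrreducible (T : Set X) := fun T hT => hT.1
  let S₀ : Set (Closeds X) := {M | M ∈ C ∧ ∀ N ∈ C, M ≤ N → N ≤ M}
  have hS₀ : IsAntichain (· ≤ ·) S₀ := fun M hM N hN hne hle => hne (le_antisymm hle (hM.2 N hN.1 hle))
  have hpts : {x : X | IsClosed ({x} : Set X) ∧ ∃ T ∈ S₀, x ∈ T} =
      {x : X | IsClosed ({x} : Set X) ∧ ∃ n, x ∈ Z n} := by
    ext x
    refine ⟨fun ⟨hx, T, hT, hxT⟩ => ?_, fun ⟨hx, n, hxn⟩ => ?_⟩
    · obtain ⟨-, n, hTn, -⟩ := hT.1
      exact ⟨hx, n, hTn hxT⟩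
    · let D : Set (Closeds X) := {u | IsIrreducible (u : Set X) ∧ u ≤ Z n}
      have h1 : (⟨{x}, hx⟩ : Closeds X) ∈ D := ⟨isIrreducible_singleton, by
        rintro y (rfl : y = x)
        exact hxn⟩
      obtain ⟨T, hT, hxT, hTmax⟩ := exists_maximal_irreducible D (fun u hu => hu.1) _ h1
      have hTC : T ∈ C := ⟨hT.1, n, hT.2, fun u hu hun => hTmax u ⟨hu, hun⟩⟩
      obtain ⟨M, hM, hTM, hMmax⟩ := exists_maximal_irreducible C hCirr T hTC
      exact ⟨hx, M, ⟨hM, hMmax⟩, hTM (hxT rfl)⟩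
  refine ⟨S₀, ⟨hcount.mono fun M hM => hM.1, fun T hT => hCirr T hT.1, hS₀, hpts⟩, ?_⟩
  rintro S ⟨hSc, hSirr, hSanti, hSpts⟩
  have key : ∀ (A B : Set (Closeds X)), (∀ T ∈ A, IsIrreducible (T : Set X)) → B.Countable →
      {x : X | IsClosed ({x} : Set X) ∧ ∃ T ∈ A, x ∈ T} = {x : X | IsClosed ({x} : Set X) ∧ ∃ T ∈ B, x ∈ T} →
      ∀ T ∈ A, ∃ U ∈ B, T ≤ U := fun A B hA hB he T hT =>
    exists_subset_of_closedPoints_subset k sX T (hA T hT) B hB fun x hx hxT =>
      ((Set.ext_iff.1 he x).1 ⟨hx, T, hT, hxT⟩).2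
  have eq : ∀ (A B : Set (Closeds X)), (∀ T ∈ A, IsIrreducible (T : Set X)) → (∀ T ∈ B, IsIrreducible (T : Set X)) →
      A.Countable → B.Countable → IsAntichain (· ≤ ·) A →
      {x : X | IsClosed ({x} : Set X) ∧ ∃ T ∈ A, x ∈ T} = {x : X | IsClosed ({x} : Set X) ∧ ∃ T ∈ B, x ∈ T} →
      A ⊆ B := fun A B hA hB hAc hBc hAa he T hT => by
    obtain ⟨U, hU, hTU⟩ := key A B hA hBc he T hT
    obtain ⟨T', hT', hUT'⟩ := key B A hB hAc he.symm U hU
    have : T = T' := by
      by_contra hne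
      exact hAa hT hT' hne (hTU.trans hUT')
    exact le_antisymm hTU (this ▸ hUT') ▸ hU
  have he := hSpts.trans hpts.symm
  exact Set.Subset.antisymm (eq S S₀ hSirr (fun T hT => hCirr T hT.1) hSc (hcount.mono fun M hM => hM.1) hSanti he)
    (eq S₀ S (fun T hT => hCirr T hT.1) hSirr (hcount.mono fun M hM => hM.1) hSc hS₀ he.symm)

end Groth.Agent.CVar22
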