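import Mathlib
import Groth.Prelude.Def_EGA41
import Groth.Agent.S2467
import Groth.Agent.S2468
import Groth.Agent.Omega.RankDimGen

/-!
# The degree of a field over `k(K^p)`
-/

set_option autoImplicit false

universe u

namespace Groth.Agent.CVar22

variable (p : ℕ) [Fact p.Prime] (k K : Type u) [Field k] [Field K] [Algebra k K] [CharP K p]

theorem closure_eq_pPower :
    (Subfield.closure (Set.range (algebraMap k K) ∪ Set.range fun x : K => x ^ p) : Set K) =
      EGA41.pPowerSubalgebra p k K := by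
  let S := EGA41.pPowerSubalgebra p k K
  have hinv : ∀ x ∈ S, x⁻¹ ∈ S := fun x hx => by
    rcases eq_or_ne x 0 with rfl | hx0
    · rw [inv_zero]; exact S.zero_mem
    have : x⁻¹ = (x⁻¹) ^ p * x ^ (p - 1) := by
      obtain ⟨q, hq⟩ := Nat.exists_eq_succ_of_ne_zero (Fact.out : p.Prime).ne_zero
      subst hq
      rw [Nat.succ_sub_one, pow_succ, inv_pow, mul_assoc, mul_comm x⁻¹, ← mul_assoc,
        inv_mul_cancel₀ (pow_ne_zero _ hx0), one_mul]
    rw [this]
    exact S.mul_mem (Algebra.subset_adjoin ⟨_, rfl⟩) (S.pow_mem hx _)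
  let F : Subfield K := { S.toSubring with inv_mem' := hinv }
  refine Set.Subset.antisymm ?_ ?_
  · show ((Subfield.closure _ : Subfield K) : Set K) ⊆ (F : Set K)
    refine Subfield.closure_le.mpr ?_
    rintro _ (⟨c, rfl⟩ | ⟨x, rfl⟩)
    · exact S.algebraMap_mem c
    · exact Algebra.subset_adjoin ⟨x, rfl⟩
  · intro x hx
    refine Algebra.adjoin_induction
      (p := fun x _ => x ∈ Subfield.closure (Set.range (algebraMap k K) ∪ Set.range fun x : K => x ^ p))
      (fun y hy => Subfield.subset_closure (Or.inr hy))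
      (fun c => Subfield.subset_closure (Or.inl ⟨c, rfl⟩))
      (fun _ _ _ _ h1 h2 => add_mem h1 h2) (fun _ _ _ _ h1 h2 => mul_mem h1 h2) hx

theorem finrank_pPower [Algebra.EssFiniteType k K] [Algebra.IsGeometricallyReduced k K]
    (d : ℕ) (hd : Algebra.trdeg k K = d) :
    Module.finrank (EGA41.pPowerSubalgebra p k K) K = p ^ d := by
  classical
  haveI : Algebra.FormallySmooth k K := FieldSep.MacLane.formallySmooth_of_isGeometricallyReduced
  have hΩ : Module.finrank K Ω[K⁄k] = d := Omega.RankDim.finrank_kaehler_eq_trdeg k K d hd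
  obtain ⟨B, -, -, hB⟩ := S2467.result p (Set.univ : Set K) ∅ (Set.subset_univ _)
    ((S2468.result p (Subtype.val : ↥(Set.univ : Set K) → K)).2.1.mpr (by
      rw [eq_top_iff, ← KaehlerDifferential.span_range_derivation k K]
      exact Submodule.span_mono (by rintro _ ⟨x, rfl⟩; exact ⟨⟨x, trivial⟩, rfl⟩)))
    ((S2468.result p (Subtype.val : ↥(∅ : Set K) → K)).1.mpr linearIndependent_empty_type)
  obtain ⟨b, -⟩ := (S2468.result p (Subtype.val : B → K)).2.2.mp hB
  haveI : Finite B := Module.Finite.finite_basis b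
  haveI := Fintype.ofFinite B
  have hcard : Fintype.card B = d := by rw [← hΩ, Module.finrank_eq_card_basis b]
  let bp := Module.Basis.mk hB.1 hB.2.ge
  let e : {e : B →₀ ℕ // ∀ i, e i < p} ≃ (B → Fin p) :=
    { toFun := fun e i => ⟨e.1 i, e.2 i⟩
      invFun := fun g => ⟨Finsupp.equivFunOnFinite.symm fun i => (g i : ℕ), fun i => by simp⟩
      left_inv := fun e => by ext i; simp
      right_inv := fun g => by ext i; simp }
  rw [Module.finrank_eq_card_basis (bp.reindex e), Fintype.card_fun, Fintype.card_fin, hcard]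

/-- The degree over the image of a field with image `k(K^p)`. -/
theorem finrank_of_range_eq [Algebra.EssFiniteType k K] [Algebra.IsGeometricallyReduced k K]
    (d : ℕ) (hd : Algebra.trdeg k K = d) (L : Type u) [Field L] (ψ : L →+* K)
    (hψ : (ψ.fieldRange : Set K) =
      (Subfield.closure (Set.range (algebraMap k K) ∪ Set.range fun x : K => x ^ p) : Set K)) :
    @Module.finrank L K _ _ ψ.toAlgebra.toModule = p ^ d := by
  letI := ψ.toAlgebra
  rw [closure_eq_pPower] at hψ
  have hmem : ∀ x, ψ x ∈ EGA41.pPowerSubalgebra p k K := fun x =>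
    hψ.subset (⟨x, rfl⟩ : ψ x ∈ ψ.fieldRange)
  let e : L ≃+* EGA41.pPowerSubalgebra p k K := RingEquiv.ofBijective
    (ψ.codRestrict (EGA41.pPowerSubalgebra p k K) hmem)
    ⟨fun a b h => ψ.injective (congrArg Subtype.val h), fun y => by
      obtain ⟨x, hx⟩ := hψ.superset y.2
      exact ⟨x, Subtype.ext hx⟩⟩
  rw [← finrank_pPower p k K d hd]
  exact Algebra.finrank_eq_of_equiv_equiv e (RingEquiv.refl K) (by ext; rfl)

end Groth.Agent.CVar22
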