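import Mathlib
import Groth.Agent.Omega.RankDimGen

/-!
# Generic smoothness on the source in characteristic zero
-/

set_option autoImplicit false

universe u

open CategoryTheory AlgebraicGeometry TensorProduct

namespace Groth.Agent.CVar22

section Alg

variable {R A K L : Type u} [CommRing R] [CommRing A] [Algebra R A] [Field K] [Field L]
  [Algebra R K] [Algebra A L] [Algebra R L] [Algebra K L] [IsScalarTower R A L]
  [IsScalarTower R K L] [Algebra.FormallyEtale R K] [Algebra.FormallyEtale A L]

/-- Differentials of a field extension which is a localization of a standard smooth algebra. -/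
theorem finrank_kaehler_of_standardSmooth (m : ℕ) [Algebra.IsStandardSmoothOfRelativeDimension m R A] :
    Module.finrank L Ω[L⁄K] = m := by
  have hA : Nontrivial A := (algebraMap A L).domain_nontrivial
  haveI : Algebra.IsStandardSmooth R A := Algebra.IsStandardSmoothOfRelativeDimension.isStandardSmooth m
  have h1 : Module.finrank L Ω[L⁄R] = m := by
    rw [← (KaehlerDifferential.isBaseChange_of_formallyEtale R A L).equiv.finrank_eq,
      Module.finrank_baseChange]
    exact Module.finrank_eq_of_rank_eq (Algebra.IsStandardSmoothOfRelativeDimension.rank_kaehlerDifferential m)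
  have hinj : Function.Injective (KaehlerDifferential.map R K L L) := by
    rw [← LinearMap.ker_eq_bot, ← KaehlerDifferential.range_mapBaseChange R K L, LinearMap.range_eq_bot]
    exact LinearMap.ext fun z => by
      haveI : Subsingleton (L ⊗[K] Ω[K⁄R]) := inferInstance
      rw [Subsingleton.elim z 0, map_zero, LinearMap.zero_apply]
  rw [← (LinearEquiv.ofBijective (KaehlerDifferential.map R K L L)
    ⟨hinj, KaehlerDifferential.map_surjective R K L⟩).finrank_eq]
  exact h1

end Alg

section Sch

variable {X Y : Scheme.{u}} (f : X ⟶ Y)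

theorem formallySmooth_stalkMap_of_isField [LocallyOfFiniteType f] (x : X)
    (hy : IsField (Y.presheaf.stalk (f x))) (hx : IsField (X.presheaf.stalk x))
    [CharZero (Y.presheaf.stalk (f x))] : (f.stalkMap x).hom.FormallySmooth := by
  let := hy.toField
  let := hx.toField
  let := (f.stalkMap x).hom.toAlgebra
  haveI : PerfectField (Y.presheaf.stalk (f x)) := PerfectField.ofCharZero
  have h : Algebra.EssFiniteType (Y.presheaf.stalk (f x)) (X.presheaf.stalk x) :=
    RingHom.essFiniteType_algebraMap.mp (LocallyOfFiniteType.stalkMap f x)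
  show (algebraMap (Y.presheaf.stalk (f x)) (X.presheaf.stalk x)).FormallySmooth
  rw [RingHom.formallySmooth_algebraMap]
  infer_instance

/-- A smooth point where both local rings are characteristic zero fields has an affine neighbourhood
smooth of relative dimension the transcendence degree. -/
theorem exists_smoothOfRelativeDimension [LocallyOfFinitePresentation f] (x : X)
    (hy : IsField (Y.presheaf.stalk (f x))) (hx : IsField (X.presheaf.stalk x))
    [CharZero (Y.presheaf.stalk (f x))] (n : ℕ)
    (hn : @Algebra.trdeg (Y.presheaf.stalk (f x)) (X.presheaf.stalk x) _ _ (f.stalkMap x).hom.toAlgebra = n) :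
    ∃ V : X.Opens, x ∈ V ∧ SmoothOfRelativeDimension n (V.ι ≫ f) := by
  have hs := formallySmooth_stalkMap_of_isField f x hy hx
  haveI : Smooth (f.smoothLocus.ι ≫ f) := by
    rw [← Scheme.Hom.smoothLocus_eq_top_iff, ← Scheme.Hom.preimage_smoothLocus_eq]
    exact TopologicalSpace.Opens.ext (Set.eq_univ_of_forall fun z => z.2)
  obtain ⟨U, hU, V', hV', hxV', e, hss⟩ :=
    Smooth.exists_isStandardSmooth (f.smoothLocus.ι ≫ f) ⟨x, hs⟩
  let V : X.Opens := f.smoothLocus.ι ''ᵁ V'
  have hV : IsAffineOpen V := hV'.image_of_isOpenImmersion _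
  have hxV : x ∈ V := ⟨⟨x, hs⟩, hxV', rfl⟩
  have hVU : V ≤ f ⁻¹ᵁ U := by
    rintro _ ⟨z, hz, rfl⟩
    exact e hz
  have hss' : (f.appLE U V hVU).hom.IsStandardSmooth := by
    rw [Scheme.Hom.comp_appLE] at hss
    have hiso : IsIso (f.smoothLocus.ι.appLE V V' (le_of_eq
        (f.smoothLocus.ι.preimage_image_eq V').symm)) := by
      show IsIso (f.smoothLocus.ι.appLE (f.smoothLocus.ι ''ᵁ V') V' _)
      rw [← Scheme.Hom.appIso_hom']
      infer_instance
    have : f.appLE U V hVU ≫ f.smoothLocus.ι.appLE V V' (le_of_eq
        (f.smoothLocus.ι.preimage_image_eq V').symm) =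
          f.app U ≫ f.smoothLocus.ι.appLE (f ⁻¹ᵁ U) V' e := by
      rw [Scheme.Hom.appLE, Category.assoc, Scheme.Hom.map_appLE]
    rw [← this, CommRingCat.hom_comp,
      RingHom.isStandardSmooth_respectsIso.cancel_right_isIso] at hss
    exact hss
  algebraize [(f.appLE U V hVU).hom]
  let m := Algebra.IsStandardSmooth.relativeDimension Γ(Y, U) Γ(X, V)
  haveI hm : Algebra.IsStandardSmoothOfRelativeDimension m Γ(Y, U) Γ(X, V) := by
    have h := ‹Algebra.IsStandardSmooth Γ(Y, U) Γ(X, V)›.out
    haveI := h.choose_spec.choose_spec.choose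
    exact ⟨h.choose, h.choose_spec.choose, inferInstance, h.choose_spec.choose_spec.choose_spec.1,
      h.choose_spec.choose_spec.choose_spec.2.some, rfl⟩
  have hmn : m = n := by
    let := hy.toField
    let := hx.toField
    let := (f.stalkMap x).hom.toAlgebra
    have hxU : f x ∈ U := hVU hxV
    let := TopCat.Presheaf.algebra_section_stalk Y.presheaf (⟨f x, hxU⟩ : U)
    let := TopCat.Presheaf.algebra_section_stalk X.presheaf (⟨x, hxV⟩ : V)
    let : Algebra Γ(Y, U) (X.presheaf.stalk x) :=
      ((algebraMap Γ(X, V) (X.presheaf.stalk x)).comp (algebraMap Γ(Y, U) Γ(X, V))).toAlgebra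
    have t1 : IsScalarTower Γ(Y, U) Γ(X, V) (X.presheaf.stalk x) := .of_algebraMap_eq' rfl
    have t2 : IsScalarTower Γ(Y, U) (Y.presheaf.stalk (f x)) (X.presheaf.stalk x) := by
      refine .of_algebraMap_eq' ?_
      show (X.presheaf.germ V x hxV).hom.comp (f.appLE U V hVU).hom =
        (f.stalkMap x).hom.comp (Y.presheaf.germ U (f x) hxU).hom
      rw [← CommRingCat.hom_comp, ← CommRingCat.hom_comp, Scheme.Hom.germ_stalkMap, Scheme.Hom.appLE,
        Category.assoc]
      congr 2
      exact X.presheaf.germ_res (homOfLE hVU) x hxV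
    have := hU.isLocalization_stalk ⟨f x, hxU⟩
    have := hV.isLocalization_stalk ⟨x, hxV⟩
    haveI : Algebra.FormallyEtale Γ(Y, U) (Y.presheaf.stalk (f x)) :=
      Algebra.FormallyEtale.of_isLocalization (hU.primeIdealOf ⟨f x, hxU⟩).asIdeal.primeCompl
    haveI : Algebra.FormallyEtale Γ(X, V) (X.presheaf.stalk x) :=
      Algebra.FormallyEtale.of_isLocalization (hV.primeIdealOf ⟨x, hxV⟩).asIdeal.primeCompl
    haveI : Algebra.EssFiniteType (Y.presheaf.stalk (f x)) (X.presheaf.stalk x) :=
      RingHom.essFiniteType_algebraMap.mp (LocallyOfFiniteType.stalkMap f x)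
    haveI : Algebra.FormallySmooth (Y.presheaf.stalk (f x)) (X.presheaf.stalk x) :=
      RingHom.formallySmooth_algebraMap.mp hs
    rw [← finrank_kaehler_of_standardSmooth (R := Γ(Y, U)) (A := Γ(X, V))
      (K := Y.presheaf.stalk (f x)) (L := X.presheaf.stalk x) m]
    exact Groth.Agent.Omega.RankDim.finrank_kaehler_eq_trdeg _ _ n hn
  refine ⟨V, hxV, ?_⟩
  have hres : SmoothOfRelativeDimension n (f.resLE U V hVU) := by
    haveI : IsAffine V := hV
    haveI : IsAffine U := hU
    rw [HasRingHomProperty.iff_of_isAffine (P := @SmoothOfRelativeDimension n)]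
    refine (((RingHom.locally_respectsIso (RingHom.isStandardSmoothOfRelativeDimension_respectsIso))).arrow_mk_iso_iff
      (arrowResLEAppIso f U V hVU)).mpr ?_
    refine RingHom.locally_of RingHom.isStandardSmoothOfRelativeDimension_respectsIso _ ?_
    exact hmn ▸ (RingHom.isStandardSmoothOfRelativeDimension_algebraMap (n := m) (R := Γ(Y, U))
      (S := Γ(X, V))).mpr hm
  rw [← Scheme.Hom.resLE_comp_ι (f := f) hVU]
  have := smoothOfRelativeDimension_comp n 0 (f := f.resLE U V hVU) (g := U.ι)
  simpa using this

end Sch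

end Groth.Agent.CVar22

namespace Groth.Agent.CVar22

theorem isField_stalk_of_eq_genericPoint {Y : Scheme.{u}} [IsIntegral Y] {y : Y} (h : y = genericPoint Y) :
    IsField (Y.presheaf.stalk y) := by
  subst h
  exact Field.toIsField Y.functionField

theorem charZero_stalk_of_eq_genericPoint {Y : Scheme.{u}} [IsIntegral Y] [CharZero Y.functionField]
    {y : Y} (h : y = genericPoint Y) : CharZero (Y.presheaf.stalk y) := by
  subst h
  exact ‹CharZero Y.functionField›

/-- Stalks of a scheme over a characteristic zero field have characteristic zero. -/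
theorem charZero_stalk_of_hom {k : Type u} [Field k] [CharZero k] {Y : Scheme.{u}}
    (q : Y ⟶ Spec (CommRingCat.of k)) (y : Y) : CharZero (Y.presheaf.stalk y) :=
  charZero_of_injective_ringHom (RingHom.injective
    ((Y.presheaf.germ ⊤ y trivial).hom.comp
      (q.appTop.hom.comp (Scheme.ΓSpecIso (CommRingCat.of k)).inv.hom)))

/-- A dominant morphism maps the generic point to the generic point. -/
theorem map_genericPoint {X Y : Scheme.{u}} [IsIntegral X] [IsIntegral Y] (f : X ⟶ Y)
    (hd : DenseRange f.base) : f.base (genericPoint X) = genericPoint Y := by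
  have h := (genericPoint_spec X).image f.base.hom.continuous
  rw [Set.image_univ] at h
  have h2 : IsGenericPoint (f.base (genericPoint X)) (Set.univ : Set Y) := by
    rw [← hd.closure_range]
    exact h
  exact h2.eq (genericPoint_spec Y)

end Groth.Agent.CVar22
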