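import Mathlib

/-!
# The ideals `(T_0, …, T_{j-1})` of a polynomial ring
-/

set_option autoImplicit false

universe u

open MvPolynomial

namespace Groth.Agent.CVar22.Adapted

variable (k : Type u) [Field k]

/-- The ideal of the first `j` variables. -/
noncomputable abbrev lead (n j : ℕ) : Ideal (MvPolynomial (Fin n) k) :=
  Ideal.span (X '' {l : Fin n | (l : ℕ) < j})

theorem lead_mono (n : ℕ) {i j : ℕ} (h : i ≤ j) : lead k n i ≤ lead k n j :=
  Ideal.span_mono (Set.image_mono fun _ hl => lt_of_lt_of_le hl h)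

theorem lead_zero (n : ℕ) : lead k n 0 = ⊥ := by
  rw [lead, Ideal.span_eq_bot]
  rintro _ ⟨l, hl, rfl⟩
  simp at hl

theorem lead_lt (n : ℕ) {i j : ℕ} (h : i < j) (hj : j ≤ n) : lead k n i < lead k n j := by
  refine lt_of_le_of_ne (lead_mono k n h.le) fun e => ?_
  have hx : (X ⟨i, h.trans_le hj⟩ : MvPolynomial (Fin n) k) ∈ lead k n i :=
    e.ge (Ideal.subset_span ⟨_, h, rfl⟩)
  let ev : MvPolynomial (Fin n) k →ₐ[k] k :=
    aeval (fun l => if (l : ℕ) < i then 0 else 1)
  have hle : lead k n i ≤ RingHom.ker ev := Ideal.span_le.mpr (by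
    rintro _ ⟨l, hl, rfl⟩
    show ev (X l) = 0
    simp only [ev, aeval_X]
    exact if_pos hl)
  have := hle hx
  rw [RingHom.mem_ker] at this
  simp [ev] at this

theorem lead_inj (n : ℕ) {i j : ℕ} (hi : i ≤ n) (hj : j ≤ n) (e : lead k n i = lead k n j) : i = j := by
  rcases lt_trichotomy i j with h | h | h
  · exact absurd e (lead_lt k n h hj).ne
  · exact h
  · exact absurd e.symm (lead_lt k n h hi).ne

theorem le_of_lead_le (n : ℕ) {i j : ℕ} (hi : i ≤ n) (e : lead k n i ≤ lead k n j) : i ≤ j :=
  not_lt.mp fun h => absurd e (lead_lt k n h hi).not_ge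

variable {k}

/-- The shift of the variables past the first `a`. -/
def shift {n : ℕ} (a : ℕ) (j : Fin (n - a)) : Fin n := ⟨a + j, by omega⟩

theorem shift_injective {n : ℕ} (a : ℕ) : Function.Injective (shift (n := n) a) := fun i j h => by
  have := congrArg Fin.val h
  simp [shift] at this
  exact Fin.ext this

variable (k)

/-- Killing the first `a` variables. -/
noncomputable def drop (n a : ℕ) : MvPolynomial (Fin n) k →ₐ[k] MvPolynomial (Fin (n - a)) k :=
  killCompl (shift_injective a)

theorem drop_rename (n a : ℕ) (p : MvPolynomial (Fin (n - a)) k) :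
    drop k n a (rename (shift a) p) = p := killCompl_rename_app _ p

theorem drop_surjective (n a : ℕ) : Function.Surjective (drop k n a) :=
  fun p => ⟨_, drop_rename k n a p⟩

theorem drop_X_of_lt {n a : ℕ} (l : Fin n) (h : (l : ℕ) < a) : drop k n a (X l) = 0 :=
  killCompl_monomial_eq_zero_of_notMem_range (s := Finsupp.single l 1) (shift_injective a) 1
    (Finsupp.mem_support_iff.mpr (by simp : (Finsupp.single l 1) l ≠ 0))
    (by rintro ⟨j, rfl⟩; simp [shift] at h)

theorem sub_rename_drop_mem (n a : ℕ) (p : MvPolynomial (Fin n) k) :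
    p - rename (shift a) (drop k n a p) ∈ lead k n a := by
  induction p using MvPolynomial.induction_on with
  | C c => simp [drop, killCompl_C]
  | add x y hx hy => rw [map_add, map_add, add_sub_add_comm]; exact add_mem hx hy
  | mul_X x i hx =>
    by_cases hi : (i : ℕ) < a
    · rw [map_mul, drop_X_of_lt k i hi, mul_zero, map_zero, sub_zero]
      exact Ideal.mul_mem_left _ _ (Ideal.subset_span ⟨i, hi, rfl⟩)
    · have e : i = shift a ⟨i - a, by omega⟩ := Fin.ext (by simp [shift]; omega)
      rw [map_mul, map_mul]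
      have : rename (shift a) (drop k n a (X i)) = X i := by
        conv_lhs => rw [e]
        rw [← rename_X, drop_rename, rename_X, ← e]
      rw [this, ← sub_mul]
      exact Ideal.mul_mem_right _ _ hx

theorem ker_drop (n a : ℕ) : RingHom.ker (drop k n a) = lead k n a := by
  refine le_antisymm (fun p hp => ?_) (Ideal.span_le.mpr ?_)
  · have h := sub_rename_drop_mem k n a p
    rwa [RingHom.mem_ker.mp hp, map_zero, sub_zero] at h
  · rintro _ ⟨l, hl, rfl⟩
    exact drop_X_of_lt k l hl

theorem comap_drop_lead (n a j : ℕ) :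
    (lead k (n - a) j).comap (drop k n a) = lead k n (a + j) := by
  have h : (lead k n (a + j)).map (drop k n a) = lead k (n - a) j := by
    refine le_antisymm ?_ ?_
    · rw [lead, Ideal.map_span, Ideal.span_le]
      rintro _ ⟨_, ⟨l, hl, rfl⟩, rfl⟩
      by_cases h' : (l : ℕ) < a
      · rw [drop_X_of_lt k l h']; exact zero_mem _
      · have e : l = shift a ⟨l - a, by omega⟩ := Fin.ext (by simp [shift]; omega)
        rw [e, ← rename_X, drop_rename]
        exact Ideal.subset_span ⟨_, (by simp at hl ⊢; omega), rfl⟩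
    · rw [lead, Ideal.span_le]
      rintro _ ⟨l, hl, rfl⟩
      rw [← drop_rename k n a (X l), rename_X]
      exact Ideal.mem_map_of_mem _ (Ideal.subset_span ⟨_, by simp [shift] at hl ⊢; omega, rfl⟩)
  rw [← h, Ideal.comap_map_of_surjective _ (drop_surjective k n a)]
  have : Ideal.comap (drop k n a) ⊥ = lead k n a := by rw [← ker_drop]; rfl
  rw [this, sup_eq_left]
  exact lead_mono k n (Nat.le_add_right a j)

end Groth.Agent.CVar22.Adapted
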