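import Mathlib
import Groth.Prelude.Def_CohB1
import Groth.Agent.RelProjLib.ProjMap

/-!
# Linear subspaces of projective space
-/

set_option autoImplicit false

noncomputable section

universe u

open CategoryTheory AlgebraicGeometry
open scoped HomogeneousIdeal

namespace Groth.Agent.CVar22

variable (R : Type u) [CommRing R] {n N : ℕ}

/-- Killing the coordinates outside the range of `e`. -/
def linHom (e : Fin (n + 1) → Fin (N + 1)) (he : Function.Injective e) :
    CohB1.polyGrading N R →+*ᵍ CohB1.polyGrading n R where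
  __ := (MvPolynomial.killCompl (R := R) he).toRingHom
  map_mem := by
    intro d p hp
    show MvPolynomial.killCompl he p ∈ MvPolynomial.homogeneousSubmodule _ R d
    rw [MvPolynomial.mem_homogeneousSubmodule] at hp ⊢
    classical
    have h := hp.aeval (S := R) (τ := Fin (n + 1)) (n := 1)
      (fun i => if h : i ∈ Set.range e then MvPolynomial.X ((Equiv.ofInjective e he).symm ⟨i, h⟩) else 0)
      (fun i => by
        split_ifs
        · exact MvPolynomial.isHomogeneous_X _ _
        · exact MvPolynomial.isHomogeneous_zero _ _ _)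
    rw [one_mul] at h
    convert h using 1
    unfold MvPolynomial.killCompl
    congr!

theorem linHom_surjective (e : Fin (n + 1) → Fin (N + 1)) (he : Function.Injective e) :
    Function.Surjective (linHom R e he) := fun p =>
  ⟨MvPolynomial.rename e p, MvPolynomial.killCompl_rename_app he p⟩

theorem irrelevant_le_span_X (m : ℕ) :
    (HomogeneousIdeal.irrelevant (CohB1.polyGrading m R)).toIdeal ≤
      Ideal.span (Set.range (MvPolynomial.X : Fin (m + 1) → MvPolynomial (Fin (m + 1)) R)) := by
  intro p hp
  rw [← Set.image_univ, MvPolynomial.mem_ideal_span_X_image]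
  intro d hd
  by_contra h
  push_neg at h
  obtain rfl : d = 0 := Finsupp.ext fun i => h i (Set.mem_univ i)
  have hp0 : GradedRing.proj (CohB1.polyGrading m R) 0 p = 0 :=
    (HomogeneousIdeal.mem_irrelevant_iff _ _).mp hp
  rw [GradedRing.proj_apply] at hp0
  have hc : MvPolynomial.coeff 0 (MvPolynomial.homogeneousComponent 0 p) = 0 := by
    rw [show MvPolynomial.homogeneousComponent 0 p =
      ((DirectSum.decompose (CohB1.polyGrading m R) p 0 : CohB1.polyGrading m R 0) : MvPolynomial _ R) from
        (MvPolynomial.decomposition.decompose'_apply p 0).symm, hp0]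
    exact MvPolynomial.coeff_zero _
  rw [MvPolynomial.coeff_homogeneousComponent] at hc
  simp at hc
  exact (MvPolynomial.mem_support_iff.mp hd) hc

theorem linHom_irrelevant (e : Fin (n + 1) → Fin (N + 1)) (he : Function.Injective e) :
    (CohB1.polyGrading n R)₊ ≤ (CohB1.polyGrading N R)₊.map (linHom R e he) := by
  show (HomogeneousIdeal.irrelevant (CohB1.polyGrading n R)).toIdeal ≤
    ((HomogeneousIdeal.irrelevant (CohB1.polyGrading N R)).map (linHom R e he)).toIdeal
  refine (irrelevant_le_span_X R n).trans (Ideal.span_le.mpr ?_)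
  rintro _ ⟨i, rfl⟩
  have h : linHom R e he (MvPolynomial.X (e i)) = MvPolynomial.X i := by
    show MvPolynomial.killCompl he (MvPolynomial.X (e i)) = _
    rw [← MvPolynomial.rename_X, MvPolynomial.killCompl_rename_app]
  rw [← h]
  exact Ideal.mem_map_of_mem _ (HomogeneousIdeal.mem_irrelevant_of_mem _ one_pos
    (MvPolynomial.isHomogeneous_X R _))

/-- The linear embedding. -/
def linEmb (e : Fin (n + 1) → Fin (N + 1)) (he : Function.Injective e) :
    CohB1.ProjSpace n R ⟶ CohB1.ProjSpace N R :=
  Proj.map (linHom R e he) (linHom_irrelevant R e he)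

instance (e : Fin (n + 1) → Fin (N + 1)) (he : Function.Injective e) :
    IsClosedImmersion (linEmb R e he) :=
  RelProjLib.isClosedImmersion_map _ _ (linHom_surjective R e he)

@[reassoc]
theorem linEmb_toSpec (e : Fin (n + 1) → Fin (N + 1)) (he : Function.Injective e) :
    linEmb R e he ≫ CohB1.ProjSpace.toSpec N R = CohB1.ProjSpace.toSpec n R := by
  have h := RelProjLib.map_toSpecZero (linHom R e he) (linHom_irrelevant R e he)
  have h2 : (RelProjLib.zeroHom (linHom R e he)).comp
      (algebraMap R (CohB1.polyGrading N R 0)) = algebraMap R (CohB1.polyGrading n R 0) := by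
    ext r : 2
    exact MvPolynomial.killCompl_C he r
  show Proj.map _ _ ≫ Proj.toSpecZero _ ≫ _ = Proj.toSpecZero _ ≫ _
  rw [reassoc_of% h, ← Spec.map_comp, ← CommRingCat.ofHom_comp, h2]

/-- Linear subspaces in disjoint coordinates are disjoint. -/
theorem disjoint_range_linEmb {n' : ℕ} (e : Fin (n + 1) → Fin (N + 1)) (he : Function.Injective e)
    (e' : Fin (n' + 1) → Fin (N + 1)) (he' : Function.Injective e')
    (h : Disjoint (Set.range e) (Set.range e')) :
    Disjoint (Set.range (linEmb R e he)) (Set.range (linEmb R e' he')) := by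
  have key : ∀ {q : ℕ} (g : Fin (q + 1) → Fin (N + 1)) (hg : Function.Injective g) (j : Fin (N + 1)),
      j ∉ Set.range g → ∀ z, (linEmb R g hg) z ∉ Proj.basicOpen (CohB1.polyGrading N R) (MvPolynomial.X j) := by
    intro q g hg j hj z hz
    have hz' : z ∈ linEmb R g hg ⁻¹ᵁ Proj.basicOpen _ (MvPolynomial.X j) := hz
    have h0 : linHom R g hg (MvPolynomial.X j) = 0 :=
      MvPolynomial.killCompl_monomial_eq_zero_of_notMem_range (s := Finsupp.single j 1) hg 1
        (Finsupp.mem_support_iff.mpr (by simp : (Finsupp.single j 1) j ≠ 0)) hj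
    have hz2 : z ∈ Proj.basicOpen (CohB1.polyGrading q R) (linHom R g hg (MvPolynomial.X j)) := hz'
    rw [h0, Proj.basicOpen_zero] at hz2
    exact hz2
  rw [Set.disjoint_left]
  rintro _ ⟨a, rfl⟩ ⟨b, hb⟩
  have hx := (Proj.iSup_basicOpen_eq_top _ _ (irrelevant_le_span_X R N)).ge
    (Set.mem_univ (linEmb R e he a))
  obtain ⟨j, hj⟩ := TopologicalSpace.Opens.mem_iSup.mp hx
  by_cases hje : j ∈ Set.range e
  · exact key e' he' j (Set.disjoint_left.mp h hje) b (hb ▸ hj)
  · exact key e he j hje a hj

end Groth.Agent.CVar22
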