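import Mathlib

/-!
# A lower bound for the fibre of a module with a universal derivation
-/

set_option autoImplicit false

universe u

open IsLocalRing

namespace Groth.Agent.CVar22

variable {k B C : Type u} [Field k] [CommRing B] [IsLocalRing B] [IsNoetherianRing B]
  [CommRing C] [IsLocalRing C]

/-- A module with a derivation over `k` which generates it and through which all derivations `e`
into cotangent spaces of quotients factor has fibre of dimension at least the dimensions of these
quotients. -/
theorem le_finrank_fibre {A M : Type u} [CommRing A] [AddCommGroup M] [Module B M]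
    (κ : k →+* B) (hκ : Function.Surjective ((residue B).comp κ))
    (φ : B →+* C) (hφ : Function.Surjective φ) (ψ : A →+* B)
    (hψ : ∀ a, ∃ c : k, φ (ψ a) = φ (κ c))
    (δ : B →+ M) (hmul : ∀ a b, δ (a * b) = a • δ b + b • δ a) (hδ : ∀ c, δ (κ c) = 0)
    (huniv : ∀ (N : Type u) [AddCommGroup N] [Module B N] (e : B →+ N),
      (∀ a b, e (a * b) = a • e b + b • e a) → (∀ a, e (ψ a) = 0) →
        ∃! l : M →ₗ[B] N, ∀ a, l (δ a) = e a)
    (hψ0 : ∀ a, δ (ψ a) = 0)
    (r : ℕ) (hr : ringKrullDim C = r) :
    r ≤ @Module.finrank k (M ⧸ (maximalIdeal B • (⊤ : Submodule B M))) _ _ (Module.compHom _ κ) := by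
  letI : Algebra k B := κ.toAlgebra
  let F := M ⧸ (maximalIdeal B • (⊤ : Submodule B M))
  letI : Module k F := Module.compHom _ κ
  haveI : IsNoetherianRing C := isNoetherianRing_of_surjective B C φ hφ
  haveI : IsLocalHom φ := IsLocalHom.of_surjective φ hφ
  -- the scalar part
  let ρ : k ≃+* ResidueField B :=
    RingEquiv.ofBijective ((residue B).comp κ) ⟨RingHom.injective _, hκ⟩
  let π : B →+* k := ρ.symm.toRingHom.comp (residue B)
  have hπκ : ∀ c, π (κ c) = c := fun c => ρ.symm_apply_apply c
  have hπ : ∀ b, b - κ (π b) ∈ maximalIdeal B := fun b => by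
    rw [← residue_eq_zero_iff, map_sub, sub_eq_zero]
    exact (ρ.apply_symm_apply (residue B b)).symm
  have hπm : ∀ b ∈ maximalIdeal B, π b = 0 := fun b hb => by
    show ρ.symm (residue B b) = 0
    rw [(residue_eq_zero_iff b).mpr hb, map_zero]
  -- the cotangent space of `C`
  let N := CotangentSpace C
  letI : Module B N := Module.compHom _ φ
  have hmem : ∀ b, φ b - φ (κ (π b)) ∈ maximalIdeal C := fun b => by
    rw [← map_sub]
    exact map_nonunit φ _ (hπ b)
  let e : B →+ N :=
    { toFun := fun b => (maximalIdeal C).toCotangent ⟨φ b - φ (κ (π b)), hmem b⟩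
      map_zero' := by
        rw [show (⟨φ 0 - φ (κ (π 0)), hmem 0⟩ : maximalIdeal C) = 0 from Subtype.ext (by simp), map_zero]
      map_add' := fun a b => by
        rw [← map_add]
        exact congrArg _ (Subtype.ext (by simp only [map_add, Submodule.coe_add]; ring)) }
  have hsmul : ∀ (b : B) (n : N), b • n = φ (κ (π b)) • n := fun b n => by
    obtain ⟨y, rfl⟩ := (maximalIdeal C).toCotangent_surjective n
    show φ b • (maximalIdeal C).toCotangent y = _
    rw [← sub_eq_zero, ← sub_smul, ← map_smul, Ideal.toCotangent_eq_zero, pow_two]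
    exact Ideal.mul_mem_mul (hmem b) y.2
  have he : ∀ a b, e (a * b) = a • e b + b • e a := fun a b => by
    rw [hsmul a, hsmul b]
    show (maximalIdeal C).toCotangent ⟨_, hmem (a * b)⟩ =
      φ (κ (π a)) • (maximalIdeal C).toCotangent _ + φ (κ (π b)) • (maximalIdeal C).toCotangent _
    rw [← map_smul, ← map_smul, ← map_add, Ideal.toCotangent_eq, pow_two]
    have : φ (a * b) - φ (κ (π (a * b))) - (φ (κ (π a)) * (φ b - φ (κ (π b))) + φ (κ (π b)) * (φ a - φ (κ (π a))))
        = (φ a - φ (κ (π a))) * (φ b - φ (κ (π b))) := by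
      simp only [map_mul]; ring
    show φ (a * b) - φ (κ (π (a * b))) - (φ (κ (π a)) * (φ b - φ (κ (π b))) + φ (κ (π b)) * (φ a - φ (κ (π a)))) ∈ _
    rw [this]
    exact Ideal.mul_mem_mul (hmem a) (hmem b)
  have heA : ∀ a, e (ψ a) = 0 := fun a => by
    show (maximalIdeal C).toCotangent _ = 0
    obtain ⟨c, hc⟩ := hψ a
    have h0 : φ (ψ a) - φ (κ (π (ψ a))) = 0 := by
      have h1 := hmem (ψ a)
      rw [hc, ← map_sub, ← map_sub] at h1 ⊢
      by_contra hne
      have hu : IsUnit (c - π (ψ a)) := isUnit_iff_ne_zero.mpr fun h => hne (by rw [h, map_zero, map_zero])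
      exact (IsLocalRing.mem_maximalIdeal _).mp h1 ((hu.map κ).map φ)
    rw [show (⟨_, hmem (ψ a)⟩ : maximalIdeal C) = 0 from Subtype.ext h0, map_zero]
  obtain ⟨l, hl, -⟩ := huniv N e he heA
  have hker : maximalIdeal B • (⊤ : Submodule B M) ≤ LinearMap.ker l := by
    rw [Submodule.smul_le]
    intro b hb m _
    rw [LinearMap.mem_ker, map_smul, hsmul, hπm b hb, map_zero, map_zero, zero_smul]
  -- structures over `k`
  letI : Algebra k C := (φ.comp κ).toAlgebra
  letI : Module k N := Module.compHom _ (φ.comp κ)
  haveI : IsScalarTower k C N := ⟨fun c x n => by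
    show ((φ.comp κ) c * x) • n = (φ.comp κ) c • (x • n)
    rw [mul_smul]⟩
  let L : F →ₗ[k] N :=
    { toFun := Submodule.liftQ _ l hker
      map_add' := map_add _
      map_smul' := fun c m => map_smul (Submodule.liftQ _ l hker) (κ c) m }
  have hLsurj : Function.Surjective L := fun n => by
    obtain ⟨⟨y, hy⟩, rfl⟩ := (maximalIdeal C).toCotangent_surjective n
    obtain ⟨b, rfl⟩ := hφ y
    have hb : b ∈ maximalIdeal B := fun hu => hy (hu.map φ)
    refine ⟨Submodule.Quotient.mk (δ b), ?_⟩
    show l (δ b) = _
    rw [hl]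
    exact congrArg _ (Subtype.ext (by simp [hπm b hb]))
  -- the fibre is finite dimensional
  haveI : Module.Finite k F := by
    obtain ⟨s, hs⟩ := IsNoetherian.noetherian (maximalIdeal B)
    classical
    refine ⟨⟨s.image fun t => (Submodule.Quotient.mk (δ t) : F), ?_⟩⟩
    rw [eq_top_iff, Finset.coe_image]
    let S : Submodule k F := Submodule.span k ((fun t => (Submodule.Quotient.mk (δ t) : F)) '' s)
    show ⊤ ≤ S
    have hB : ∀ (b : B) (x : F), x ∈ S → b • x ∈ S := fun b x hx => by
      have : b • x = π b • x := by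
        show b • x = κ (π b) • x
        rw [← sub_eq_zero, ← sub_smul]
        obtain ⟨m, rfl⟩ := Submodule.Quotient.mk_surjective _ x
        rw [← Submodule.Quotient.mk_smul, Submodule.Quotient.mk_eq_zero]
        exact Submodule.smul_mem_smul (hπ b) Submodule.mem_top
      rw [this]
      exact S.smul_mem _ hx
    let T : Submodule B M :=
      { carrier := {m | (Submodule.Quotient.mk m : F) ∈ S}
        zero_mem' := S.zero_mem
        add_mem' := fun h h' => S.add_mem h h'
        smul_mem' := fun b m h => hB b _ h }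
    have hmT : maximalIdeal B • (⊤ : Submodule B M) ≤ T := fun m hm => by
      show (Submodule.Quotient.mk m : F) ∈ S
      rw [(Submodule.Quotient.mk_eq_zero _).mpr hm]
      exact S.zero_mem
    have hgen : ∀ b ∈ maximalIdeal B, δ b ∈ T := fun b hb => by
      rw [← hs] at hb
      induction hb using Submodule.span_induction with
      | mem t ht => exact Submodule.subset_span ⟨t, ht, rfl⟩
      | zero => rw [map_zero]; exact T.zero_mem
      | add x y _ _ hx hy => rw [map_add]; exact T.add_mem hx hy
      | smul a x hx ih =>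
        rw [smul_eq_mul, hmul]
        refine T.add_mem (T.smul_mem _ ih) (hmT (Submodule.smul_mem_smul ?_ Submodule.mem_top))
        rw [← hs]; exact hx
    have hδT : ∀ b, δ b ∈ T := fun b => by
      have := hgen _ (hπ b)
      rwa [map_sub, hδ, sub_zero] at this
    have hT : T = ⊤ := by
      have h := huniv (M ⧸ T) 0 (fun _ _ => by simp) (fun _ => rfl)
      have h1 : T.mkQ = 0 := h.unique (fun b => (Submodule.Quotient.mk_eq_zero T).mpr (hδT b)) (fun b => rfl)
      rw [← Submodule.ker_mkQ T, h1, LinearMap.ker_zero]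
    intro x _
    obtain ⟨m, rfl⟩ := Submodule.Quotient.mk_surjective _ x
    exact (show m ∈ T from hT ▸ trivial)
  -- compare dimensions
  have hbij : Function.Bijective (algebraMap k (ResidueField C)) := by
    refine ⟨RingHom.injective _, fun z => ?_⟩
    obtain ⟨y, rfl⟩ := residue_surjective (R := C) z
    obtain ⟨b, rfl⟩ := hφ y
    refine ⟨π b, ?_⟩
    rw [IsScalarTower.algebraMap_apply k C (ResidueField C), ResidueField.algebraMap_eq, eq_comm,
      ← sub_eq_zero, ← map_sub, residue_eq_zero_iff]
    exact hmem b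
  haveI hst : IsScalarTower k (ResidueField C) N := ⟨fun c x n => by
    obtain ⟨y, rfl⟩ := residue_surjective (R := C) x
    rw [Algebra.smul_def, IsScalarTower.algebraMap_apply k C (ResidueField C), ResidueField.algebraMap_eq,
      ← map_mul]
    show ((algebraMap k C c) * y) • n = (φ.comp κ) c • (y • n)
    rw [mul_smul]
    rfl⟩
  have h1 : r ≤ Module.finrank (ResidueField C) N := by
    have := ringKrullDim_le_spanFinrank_maximalIdeal (R := C)
    rw [hr, spanFinrank_maximalIdeal_eq_finrank_cotangentSpace] at this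
    exact_mod_cast this
  have h2 : Module.finrank k N = Module.finrank (ResidueField C) N := by
    rw [← @Module.finrank_mul_finrank k (ResidueField C) N _ _ _ _ _ _ hst _ _,
      ← (AlgEquiv.ofBijective (Algebra.ofId k (ResidueField C)) hbij).toLinearEquiv.finrank_eq,
      Module.finrank_self, one_mul]
  calc r ≤ Module.finrank k N := h2 ▸ h1
    _ ≤ Module.finrank k F := L.finrank_le_finrank_of_surjective hLsurj

end Groth.Agent.CVar22
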