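import Mathlib
import Groth.Agent.S9442
import Groth.Agent.Omega.RankDim

/-!
# Regular local algebras essentially of finite type over a field
-/

set_option autoImplicit false

universe u

namespace Groth.Agent.CVar22

variable (k : Type u) [Field k] (L : Type u) [CommRing L] [IsLocalRing L] [Algebra k L]
  [Algebra.EssFiniteType k L]

/-- A local algebra essentially of finite type over a field is a local ring of a finite type algebra. -/
theorem exists_atPrime : ∃ (A : Type u) (_ : CommRing A) (_ : Algebra k A) (_ : Algebra.FiniteType k A)
    (q : Ideal A) (_ : q.IsPrime), Nonempty (Localization.AtPrime q ≃ₐ[k] L) := by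
  let A := Algebra.EssFiniteType.subalgebra k L
  let q : Ideal A := (IsLocalRing.maximalIdeal L).comap (algebraMap A L)
  have hq : q.IsPrime := inferInstance
  have hM : Algebra.EssFiniteType.submonoid k L = q.primeCompl := by
    ext a
    show IsUnit (algebraMap A L a) ↔ a ∉ q
    rw [Ideal.mem_comap, IsLocalRing.mem_maximalIdeal, mem_nonunits_iff, not_not]
  have : IsLocalization q.primeCompl L := hM ▸ Algebra.EssFiniteType.isLocalization k L
  exact ⟨A, inferInstance, inferInstance, inferInstance, q, hq,
    ⟨(IsLocalization.algEquiv q.primeCompl (Localization.AtPrime q) L).restrictScalars k⟩⟩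

theorem isRegularLocalRing_of_formallySmooth [Algebra.FormallySmooth k L] : IsRegularLocalRing L := by
  obtain ⟨A, _, _, _, q, _, ⟨e⟩⟩ := exists_atPrime k L
  haveI : IsRegularLocalRing (Localization.AtPrime q) :=
    Omega.RankDim.isRegularLocalRing_of_isSmoothAt k A q (Algebra.FormallySmooth.of_equiv e.symm)
  exact IsRegularLocalRing.of_ringEquiv e.toRingEquiv

theorem formallySmooth_of_isRegularLocalRing [PerfectField k] [IsRegularLocalRing L] :
    Algebra.FormallySmooth k L := by
  obtain ⟨A, _, _, _, q, _, ⟨e⟩⟩ := exists_atPrime k L
  haveI : Algebra.IsGeometricallyReduced k q.ResidueField :=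
    (FieldSep.MacLane.formallySmooth_iff k _).mp (FieldSep.Cartier.formallySmooth_of_perfectField k _)
  haveI : Algebra.FormallySmooth k (Localization.AtPrime q) :=
    (Groth.Agent.S9442.result k A q).mpr (IsRegularLocalRing.of_ringEquiv e.symm.toRingEquiv)
  exact Algebra.FormallySmooth.of_equiv e

end Groth.Agent.CVar22
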