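import Mathlib.AlgebraicGeometry.Morphisms.FiniteType
import Mathlib.AlgebraicGeometry.Morphisms.Finite
import Mathlib.RingTheory.NoetherNormalization
import Mathlib.RingTheory.Nullstellensatz
import Mathlib.RingTheory.Ideal.KrullsHeightTheorem
import Mathlib.Algebra.MvPolynomial.Equiv

/-!
# Countably many proper closed subsets do not cover the closed points over an uncountable field
-/

universe u

open CategoryTheory AlgebraicGeometry TopologicalSpace MvPolynomial

namespace Groth.Agent.CVar22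

/-- countably many nonzero polynomials have a common non-zero -/
theorem exists_eval_ne_zero (k : Type u) [Field k] [Uncountable k] :
    ∀ (d : ℕ) (g : ℕ → MvPolynomial (Fin d) k), (∀ n, g n ≠ 0) → ∃ x : Fin d → k, ∀ n, eval x (g n) ≠ 0
  | 0, g, hg => ⟨Fin.elim0, fun n h => hg n (by
      rw [eq_C_of_isEmpty (g n)] at h ⊢
      rw [eval_C] at h
      rw [h, C_0])⟩
  | d + 1, g, hg => by
    let P := fun n => finSuccEquiv k d (g n)
    have hP : ∀ n, P n ≠ 0 := fun n h => hg n ((finSuccEquiv k d).injective (h.trans (map_zero _).symm))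
    obtain ⟨x, hx⟩ := exists_eval_ne_zero k d (fun n => (P n).leadingCoeff)
      fun n => Polynomial.leadingCoeff_ne_zero.2 (hP n)
    let Q := fun n => Polynomial.map (eval x) (P n)
    have hQ : ∀ n, Q n ≠ 0 := fun n h => hx n (by
      have := congrArg (fun p => Polynomial.coeff p (P n).natDegree) h
      simpa [Q, Polynomial.coeff_map] using this)
    have hc : (⋃ n, {y : k | (Q n).IsRoot y}).Countable :=
      Set.countable_iUnion fun n => (Polynomial.finite_setOfPred_isRoot (hQ n)).countable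
    obtain ⟨y, hy⟩ : ∃ y, y ∉ ⋃ n, {y : k | (Q n).IsRoot y} := by
      by_contra h
      push Not at h
      exact Set.not_countable_univ (hc.mono fun y _ => h y)
    refine ⟨Fin.cons y x, fun n h => hy (Set.mem_iUnion.2 ⟨n, ?_⟩)⟩
    rwa [eval_eq_eval_mv_eval', ] at h

/-- the affine statement -/
theorem exists_maximal_forall_notMem (k A : Type u) [Field k] [Uncountable k] [CommRing A] [IsDomain A]
    [Algebra k A] [Algebra.FiniteType k A] (g : ℕ → A) (hg : ∀ n, g n ≠ 0) :
    ∃ M : Ideal A, M.IsMaximal ∧ ∀ n, g n ∉ M := by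
  obtain ⟨d, φ, hφ, hint⟩ := exists_integral_inj_algHom_of_fg k A
  let _ : Algebra (MvPolynomial (Fin d) k) A := φ.toRingHom.toAlgebra
  have : Algebra.IsIntegral (MvPolynomial (Fin d) k) A := ⟨hint⟩
  have hh : ∀ n, ∃ h : MvPolynomial (Fin d) k, h ≠ 0 ∧ φ h ∈ Ideal.span {g n} := fun n => by
    have : (Ideal.span {g n}).comap (algebraMap (MvPolynomial (Fin d) k) A) ≠ ⊥ := fun h =>
      hg n (Ideal.span_singleton_eq_bot.1 (Ideal.eq_bot_of_comap_eq_bot h))
    obtain ⟨h, hh, hh0⟩ := Submodule.exists_mem_ne_zero_of_ne_bot this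
    exact ⟨h, hh0, hh⟩
  choose h hh0 hmem using hh
  obtain ⟨x, hx⟩ := exists_eval_ne_zero k d h hh0
  let m : Ideal (MvPolynomial (Fin d) k) := RingHom.ker (eval x)
  have hm : m.IsMaximal := RingHom.ker_isMaximal_of_surjective _ fun c => ⟨C c, eval_C c⟩
  obtain ⟨M, hM, hMm⟩ := Ideal.exists_ideal_over_maximal_of_isIntegral (S := A) m
    (by
      have e : RingHom.ker (algebraMap (MvPolynomial (Fin d) k) A) = ⊥ := (RingHom.injective_iff_ker_eq_bot _).1 hφ
      exact e.le.trans bot_le)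
  refine ⟨M, hM, fun n hn => hx n ?_⟩
  change h n ∈ m
  rw [← hMm]
  exact (Ideal.span_singleton_le_iff_mem _).2 hn (hmem n)

/-- Closed points avoiding countably many proper closed subsets. -/
theorem exists_closedPoint_forall_notMem (k : Type u) [Field k] [Uncountable k] {X : Scheme.{u}}
    (sX : X ⟶ Spec (CommRingCat.of k)) [IrreducibleSpace X] [LocallyOfFiniteType sX]
    (Z : ℕ → Set X) (hc : ∀ n, IsClosed (Z n)) (hZ : ∀ n, Z n ≠ Set.univ) :
    ∃ x : X, IsClosed ({x} : Set X) ∧ ∀ n, x ∉ Z n := by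
  obtain ⟨x₀⟩ := (inferInstance : Nonempty X)
  obtain ⟨U, hU, hx₀, -⟩ := exists_isAffineOpen_mem_and_subset (x := x₀) (U := ⊤) trivial
  have hne : ∀ n, ((U : Set X) ∩ (Z n)ᶜ).Nonempty := fun n =>
    nonempty_preirreducible_inter U.2 (hc n).isOpen_compl ⟨x₀, hx₀⟩ (Set.nonempty_compl.2 (hZ n))
  let φ : CommRingCat.of k ⟶ Γ(X, U) := (Scheme.ΓSpecIso _).inv ≫ sX.appLE ⊤ U (by simp)
  let _ : Algebra k Γ(X, U) := φ.hom.toAlgebra
  have : Algebra.FiniteType k Γ(X, U) := by
    have h := LocallyOfFiniteType.finiteType_appLE sX (isAffineOpen_top _) hU (e := (by simp))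
    exact h.comp (RingHom.FiniteType.of_surjective _
      (ConcreteCategory.bijective_of_isIso (Scheme.ΓSpecIso (CommRingCat.of k)).inv).2)
  let P : Ideal Γ(X, U) := nilradical Γ(X, U)
  have : Nonempty (Spec Γ(X, U)) := by
    obtain ⟨z, -⟩ := hU.range_fromSpec.ge hx₀
    exact ⟨z⟩
  have hirr : IrreducibleSpace (PrimeSpectrum Γ(X, U)) := by
    have : IrreducibleSpace (Spec Γ(X, U)) :=
      { toPreirreducibleSpace := ⟨by
          rw [← Set.preimage_univ (f := hU.fromSpec)]
          exact (PreirreducibleSpace.isPreirreducible_univ).preimage hU.fromSpec.isOpenEmbedding⟩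
        toNonempty := inferInstance }
    exact this
  have hP : P.IsPrime := PrimeSpectrum.isIrreducible_iff_vanishingIdeal_isPrime.1 hirr.isIrreducible_univ |> fun h => by
    rwa [← PrimeSpectrum.zeroLocus_bot, PrimeSpectrum.vanishingIdeal_zeroLocus_eq_radical] at h
  have hF : ∀ n, ∃ g : Γ(X, U), g ∉ P ∧ ∀ z : Spec Γ(X, U), hU.fromSpec z ∈ Z n → g ∈ z.asIdeal := fun n => by
    obtain ⟨I, hI⟩ := (PrimeSpectrum.isClosed_iff_zeroLocus_ideal _).1
      ((hc n).preimage hU.fromSpec.continuous)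
    have hIP : ¬ I ≤ P := fun hle => by
      obtain ⟨y, hyU, hy⟩ := hne n
      obtain ⟨z, rfl⟩ := hU.range_fromSpec.ge hyU
      have hz : z ∈ PrimeSpectrum.zeroLocus (I : Set Γ(X, U)) := hle.trans (fun a ha => nilpotent_iff_mem_prime.1 ha _ z.2)
      rw [← hI] at hz
      exact hy hz
    obtain ⟨g, hgI, hgP⟩ := SetLike.not_le_iff_exists.1 hIP
    refine ⟨g, hgP, fun z hz => ?_⟩
    have hz' : z ∈ PrimeSpectrum.zeroLocus (I : Set Γ(X, U)) := by rw [← hI]; exact hz
    exact hz' hgI
  choose g hgP hg using hF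
  have : IsDomain (Γ(X, U) ⧸ P) := Ideal.Quotient.isDomain P
  obtain ⟨M, hM, hgM⟩ := exists_maximal_forall_notMem k (Γ(X, U) ⧸ P) (fun n => Ideal.Quotient.mk P (g n))
    fun n h => hgP n (Ideal.Quotient.eq_zero_iff_mem.1 h)
  have hmax : (M.comap (Ideal.Quotient.mk P)).IsMaximal :=
    Ideal.comap_isMaximal_of_surjective _ Ideal.Quotient.mk_surjective
  let z : Spec Γ(X, U) := ⟨M.comap (Ideal.Quotient.mk P), hmax.isPrime⟩
  have := LocallyOfFiniteType.jacobsonSpace sX
  refine ⟨hU.fromSpec z, ?_, fun n hn => hgM n (hg n z hn)⟩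
  apply isClosed_singleton_of_isLocallyClosed_singleton
  rw [← Set.image_singleton]
  exact ((PrimeSpectrum.isClosed_singleton_iff_isMaximal z).2 hmax).isLocallyClosed.image
    hU.fromSpec.isOpenEmbedding.isInducing hU.fromSpec.isOpenEmbedding.isOpen_range.isLocallyClosed

end Groth.Agent.CVar22
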