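import Mathlib
import Groth.Agent.RedNorm.Delta
import Groth.Agent.VarDim.Algebra

/-!
# The equality case of the inequality between δ and the number of branches
-/

set_option autoImplicit false

universe u

namespace Groth.Agent.CVar22.Wedge

variable {R N : Type u} [CommRing R] [IsLocalRing R] [CommRing N] [Algebra R N] [Algebra.IsIntegral R N]
  [Fintype (MaximalSpectrum N)]

/-- If the length of the cokernel plus one is at most the number of maximal ideals, the residue fields
are trivial and the algebra is the preimage of the diagonal. -/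
theorem equality_case (htop : Module.length R (N ⧸ LinearMap.range (Algebra.linearMap R N)) ≠ ⊤)
    (h : Module.length R (N ⧸ LinearMap.range (Algebra.linearMap R N)) + 1 ≤
      (Fintype.card (MaximalSpectrum N) : ℕ∞)) :
    (∀ m : MaximalSpectrum N, Function.Surjective fun a : R => Ideal.Quotient.mk m.asIdeal (algebraMap R N a)) ∧
    ∀ x : N, (∃ a : R, ∀ m : MaximalSpectrum N, x - algebraMap R N a ∈ m.asIdeal) →
      x ∈ LinearMap.range (Algebra.linearMap R N) := by
  classical
  set P := LinearMap.range (Algebra.linearMap R N) with hP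
  obtain ⟨δ, hδ⟩ := ENat.ne_top_iff_exists.mp htop
  let Q := fun m : MaximalSpectrum N => N ⧸ m.asIdeal
  have hpos : ∀ m, 1 ≤ Module.length R (Q m) := fun m => by
    haveI := Ideal.Quotient.nontrivial_iff.mpr m.isMaximal.ne_top
    exact Order.one_le_iff_pos.mpr Module.length_pos
  have hsum := RedNorm.sum_length_quotient_le (R := R) (N := N) Finset.univ
  rw [← hδ] at hsum h
  have hcard : (δ : ℕ∞) + 1 = (Fintype.card (MaximalSpectrum N) : ℕ∞) := by
    refine le_antisymm h (le_trans ?_ hsum)
    have := Finset.sum_le_sum (s := (Finset.univ : Finset (MaximalSpectrum N))) fun m _ => hpos m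
    simpa using this
  have hone : ∀ m, Module.length R (Q m) = 1 := by
    rw [hcard] at hsum
    have hfin : ∀ m, Module.length R (Q m) ≠ ⊤ := fun m he => by
      have hm := Finset.single_le_sum (f := fun m => Module.length R (Q m)) (fun _ _ => zero_le)
        (Finset.mem_univ m)
      have := (he ▸ hm).trans hsum
      exact ENat.natCast_ne_top _ (top_le_iff.mp this)
    choose l hl using fun m => ENat.ne_top_iff_exists.mp (hfin m)
    have hl1 : ∀ m, 1 ≤ l m := fun m => by
      have := hpos m
      rw [← hl m] at this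
      exact_mod_cast this
    have hs : ∑ m, l m ≤ ∑ _m : MaximalSpectrum N, 1 := by
      have : ((∑ m, l m : ℕ) : ℕ∞) ≤ (Fintype.card (MaximalSpectrum N) : ℕ∞) := by
        rw [Nat.cast_sum, Finset.sum_congr rfl fun m _ => hl m]
        exact hsum
      simpa using (Nat.cast_le (α := ℕ∞)).mp this
    intro m
    rw [← hl m]
    have := (Finset.sum_eq_sum_iff_of_le (fun i _ => hl1 i)).mp
      (le_antisymm (Finset.sum_le_sum fun i _ => hl1 i) hs) m (Finset.mem_univ m)
    exact_mod_cast this.symm
  refine ⟨fun m z => ?_, ?_⟩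
  · haveI : IsSimpleModule R (Q m) := Module.length_eq_one_iff.mp (hone m)
    haveI := Ideal.Quotient.nontrivial_iff.mpr m.isMaximal.ne_top
    obtain ⟨a, ha⟩ := IsSimpleModule.toSpanSingleton_surjective R (m := (1 : Q m)) one_ne_zero z
    refine ⟨a, Eq.trans ?_ ha⟩
    rw [LinearMap.toSpanSingleton_apply, Algebra.smul_def, mul_one]
    rfl
  · let q : N →ₗ[R] (∀ m, Q m) :=
      LinearMap.pi fun m => (Ideal.Quotient.mkₐ R m.asIdeal).toLinearMap
    have hq : Function.Surjective q := fun y => by
      obtain ⟨z, hz⟩ := Ideal.quotientInfToPiQuotient_surj (I := fun m : MaximalSpectrum N => m.asIdeal)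
        (fun i j hij => Ideal.isCoprime_iff_sup_eq.mpr (i.isMaximal.coprime_of_ne j.isMaximal
          fun h => hij (MaximalSpectrum.ext h))) y
      obtain ⟨z, rfl⟩ := Ideal.Quotient.mk_surjective z
      exact ⟨z, hz⟩
    have hone' : ∀ a : R, a • q 1 = q (algebraMap R N a) := fun a => by
      rw [Algebra.algebraMap_eq_smul_one, map_smul]
    have hk : Module.length R (P.map q) ≤ 1 := by
      let g₀ : R →ₗ[R] ↥(P.map q) := (LinearMap.toSpanSingleton R _ (q 1)).codRestrict (P.map q)
        fun a => ⟨algebraMap R N a, ⟨a, rfl⟩, (hone' a).symm⟩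
      let g : R ⧸ IsLocalRing.maximalIdeal R →ₗ[R] ↥(P.map q) :=
        Submodule.liftQ _ g₀ (fun a ha => by
          rw [LinearMap.mem_ker]
          apply Subtype.ext
          show a • q 1 = 0
          rw [hone']
          funext m
          haveI := m.isMaximal
          haveI := Ideal.isMaximal_comap_of_isIntegral_of_isMaximal (R := R) m.asIdeal
          rw [← IsLocalRing.eq_maximalIdeal (R := R) (I := m.asIdeal.comap (algebraMap R N)) inferInstance] at ha
          exact Ideal.Quotient.eq_zero_iff_mem.mpr ha)
      have hg : Function.Surjective g := by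
        rintro ⟨y, ⟨x, ⟨a, rfl⟩, rfl⟩⟩
        exact ⟨Submodule.Quotient.mk a, Subtype.ext (hone' a)⟩
      refine (Module.length_le_of_surjective g hg).trans ?_
      haveI : IsSimpleModule R (R ⧸ IsLocalRing.maximalIdeal R) :=
        isSimpleModule_iff_isCoatom.mpr (Ideal.isMaximal_def.mp (IsLocalRing.maximalIdeal.isMaximal _))
      exact le_of_eq (Module.length_eq_one _ _)
    let π := Submodule.mapQ P (P.map q) q (P.le_comap_map q)
    have hπ : Function.Surjective π := fun y => by
      obtain ⟨y, rfl⟩ := Submodule.Quotient.mk_surjective _ y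
      obtain ⟨x, rfl⟩ := hq y
      exact ⟨Submodule.Quotient.mk x, rfl⟩
    have h1 : Module.length R (∀ m, Q m) = (Fintype.card (MaximalSpectrum N) : ℕ∞) := by
      rw [Module.length_pi_of_fintype, Finset.sum_congr rfl fun m _ => hone m]
      simp
    have h2 := Module.length_eq_add_of_exact (R := R) (P.map q).subtype (P.map q).mkQ
      Subtype.val_injective (Submodule.mkQ_surjective _) (LinearMap.exact_subtype_mkQ _)
    have h3 := Module.length_eq_add_of_exact (R := R) (LinearMap.ker π).subtype π
      Subtype.val_injective hπ (LinearMap.exact_subtype_ker_map π)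
    rw [← hδ] at h3
    rw [h1, ← hcard] at h2
    have hker : Module.length R (LinearMap.ker π) = 0 := by
      have hT : Module.length R ((∀ m, Q m) ⧸ P.map q) ≠ ⊤ := fun e => by
        rw [e, add_top] at h3; exact ENat.natCast_ne_top _ h3
      have hK : Module.length R (LinearMap.ker π) ≠ ⊤ := fun e => by
        rw [e, top_add] at h3; exact ENat.natCast_ne_top _ h3
      obtain ⟨T, hT⟩ := ENat.ne_top_iff_exists.mp hT
      obtain ⟨K, hK⟩ := ENat.ne_top_iff_exists.mp hK
      obtain ⟨L, hL⟩ := ENat.ne_top_iff_exists.mp (ne_top_of_le_ne_top (by simp) hk)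
      rw [← hT, ← hK] at h3
      rw [← hT, ← hL] at h2
      rw [← hL] at hk
      rw [← hK]
      norm_cast at h2 h3 hk ⊢
      omega
    haveI := Module.length_eq_zero_iff.mp hker
    intro x hx
    obtain ⟨a, ha⟩ := hx
    have hx0 : π (Submodule.Quotient.mk x) = 0 := by
      show Submodule.Quotient.mk (q x) = 0
      rw [Submodule.Quotient.mk_eq_zero]
      refine ⟨algebraMap R N a, ⟨a, rfl⟩, funext fun m => ?_⟩
      exact (Ideal.Quotient.eq.mpr (ha m)).symm
    have := Subsingleton.elim (⟨Submodule.Quotient.mk x, hx0⟩ : LinearMap.ker π) 0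
    exact (Submodule.Quotient.mk_eq_zero P).mp (congrArg Subtype.val this)

/-- Over a separably closed field, maps out of an algebraic extension are determined by the base. -/
theorem ringHom_ext_of_isSepClosed {κ K Ω : Type*} [Field κ] [Field K] [Field Ω] [IsSepClosed κ]
    (φ : κ →+* K) (hφ : φ.IsIntegral) (σ τ : K →+* Ω) (h : σ.comp φ = τ.comp φ) : σ = τ := by
  letI := φ.toAlgebra
  letI := (σ.comp φ).toAlgebra
  haveI : Algebra.IsIntegral κ K := ⟨hφ⟩
  haveI : Algebra.IsAlgebraic κ K := Algebra.IsIntegral.isAlgebraic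
  haveI : IsPurelyInseparable κ K := inferInstance
  let σ' : K →ₐ[κ] Ω := ⟨σ, fun _ => rfl⟩
  let τ' : K →ₐ[κ] Ω := ⟨τ, fun z => (DFunLike.congr_fun h z).symm⟩
  exact congrArg AlgHom.toRingHom (Subsingleton.elim σ' τ')

end Groth.Agent.CVar22.Wedge
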